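import Groth.Agent.PBReg.KFree

/-!
The classes of the powers of the tautological bundle in a model.
-/

set_option autoImplicit false
set_option linter.unusedSectionVars false
set_option linter.style.haveILetI false
set_option backward.isDefEq.respectTransparency false
set_option backward.isDefEq.respectTransparency.types false
set_option maxHeartbeats 1000000

universe v u

open CategoryTheory CategoryTheory.Limits AlgebraicGeometry TopologicalSpace Opposite

noncomputable section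

namespace Groth.Agent.PBReg

/-- The bundle of classes of a scheme without points vanishes. -/
theorem subsingleton_kvb (P : Scheme.{u}) [IsEmpty ↥P] : Subsingleton (SGA6.Kvb P) := by
  refine subsingleton_of_forall_eq 0 fun x => ?_
  refine SGA6Ext.cls_induction (C := fun x => x = 0) rfl (fun x hx => by rw [hx, neg_zero])
    (fun x y hx hy => by rw [hx, hy, add_zero]) (fun F hF => ?_) x
  have hz : IsZero F := SGA6Ext.isZero_of_rank_zero (fun x => isEmptyElim x)
  have h1 : (ShortComplex.mk (0 : F ⟶ F) (0 : F ⟶ F) zero_comp).ShortExact :=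
    { exact := ShortComplex.exact_of_isZero_X₂ _ hz
      mono_f := ⟨fun _ _ _ => hz.eq_of_tgt _ _⟩
      epi_g := ⟨fun _ _ _ => hz.eq_of_src _ _⟩ }
  exact left_eq_add.1 (K0Res.clSub_add (fun M => FlatMod.IsFinLocFree M) h1 hF hF hF)

/-- A module that is zero and of rank one lives on a scheme without points. -/
theorem isEmpty_of_isZero {P : Scheme.{u}} {L : P.Modules} (h : FlatMod.IsFinLocFreeOfRank 1 L) (hz : IsZero L) :
    IsEmpty ↥P := by
  refine ⟨fun x => ?_⟩
  obtain ⟨U, n, e, hx, he⟩ := TMul.exists_isFrame (SGA6Ext.finLocFree_of_rank h) x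
  obtain rfl : n = 1 := (SGA6Ext.rk_of_frame he hx).symm.trans (SGA6Ext.rk_of_rank h x)
  haveI : Subsingleton Γ(L, U) := subsingleton_of_forall_eq 0 fun s =>
    (congrArg (RegKos.ev s) ((IsZero.iff_id_eq_zero L).1 hz))
  have h0 : (fun _ => (1 : Γ(P, U))) = (fun _ : Fin 1 => (0 : Γ(P, U))) := he.comb_injective le_rfl (Subsingleton.elim _ _)
  haveI : Nonempty U := ⟨⟨x, hx⟩⟩
  exact one_ne_zero (congrFun h0 0)

variable {n : ℕ} {T : Scheme.{u}} {X : Bun n T}

theorem nonempty_O_pow {L : X.P.Modules} (h : ClSub.IsInverseOf L X.O1) (i : ℕ) :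
    Nonempty (CohB1.tensorPow L i ≅ X.O (-(i : ℤ))) := by
  obtain ⟨m⟩ := X.mul_Oinv
  obtain ⟨a⟩ := PBundle.nonempty_iso_of_isInverse h (L' := X.Oinv) ⟨TMul.commIso _ _ ≪≫ m⟩
  obtain ⟨b⟩ := PBundle.nonempty_powIso a i
  obtain ⟨c⟩ := X.O_neg i
  exact ⟨b ≪≫ c.symm⟩

variable {KT : Type v} {KP : Type v} [CommRing KT] [CommRing KP] [LambdaRing.LambdaOps KP]
  {PP : LambdaRing.PosStructure KP} {φP : SGA6.Kvb X.P →+ KP}

theorem model_O_pow (hKP : KRR.IsModel X.P KP PP φP) :
    ∀ i : ℕ, φP (KRR.cl X.P X.O1) ^ i = φP (SGA6Ext.cls (X.O (i : ℤ)))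
  | 0 => (pow_zero _).trans hKP.map_one.symm
  | i + 1 => by
    rw [pow_succ, model_O_pow hKP i]
    exact hKP.map_mul _ _ (ResDesc.isFinLocFree_of_isInvertible (X.inv_O (i : ℤ)))
      (ResDesc.isFinLocFree_of_isInvertible X.inv_O1)

theorem model_gen (hKP : KRR.IsModel X.P KP PP φP) {φT : SGA6.Kvb T →+ KT} {g : KT →+ KP}
    (hg : KRR.IsPull X.π φT φP g) (i : ℕ) (x : SGA6.Kvb T) :
    g (φT x) * φP (KRR.cl X.P X.O1) ^ i = φP (X.gen (i : ℤ) x) := by
  rw [model_O_pow hKP i]
  have e : (AddMonoidHom.mulRight (φP (SGA6Ext.cls (X.O (i : ℤ))))).comp (g.comp φT) = φP.comp (X.gen (i : ℤ)) :=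
    SGA6Ext.hom_ext_cls fun N hN => by
      have hO := ResDesc.isFinLocFree_of_isInvertible (X.inv_O (i : ℤ))
      have hp := isFLF_pull (X := X) hN
      show g (φT (SGA6Ext.cls N)) * φP (SGA6Ext.cls (X.O (i : ℤ))) = φP (X.gen (i : ℤ) (SGA6Ext.cls N))
      rw [gen_cls _ hN, show g (φT (SGA6Ext.cls N)) = _ from hg N hN]
      refine (hKP.map_mul _ _ hp hO).trans (congrArg φP ?_)
      exact SGA6Ext.cls_iso (TMul.commIso _ _) (DerPerf.isFinLocFree_tensor hp hO)
  exact DFunLike.congr_fun e x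

end Groth.Agent.PBReg
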