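import Groth.Agent.PBReg.KGen

/-!
The Grothendieck group of bundles on a projective bundle is free on the twists.
-/

set_option autoImplicit false
set_option linter.unusedSectionVars false
set_option linter.style.haveILetI false
set_option backward.isDefEq.respectTransparency false
set_option backward.isDefEq.respectTransparency.types false
set_option maxHeartbeats 1000000

universe u

open CategoryTheory CategoryTheory.Limits AlgebraicGeometry TopologicalSpace Opposite
open Groth.Agent.PnReg (sub_induction)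

noncomputable section

namespace Groth.Agent.PBReg

variable {n : ℕ} {T : Scheme.{u}} (X : Bun n T)

/-- Twisting, on classes. -/
def Bun.twK (d : ℤ) : SGA6.Kvb X.P →+ SGA6.Kvb X.P :=
  SGA6Ext.liftK (fun F => SGA6Ext.cls (X.twF d F.1)) fun S h₁ h₂ h₃ hS => by
    have g₁ := DQCoh.isFinLocFree_of_iso' (X.twComm d S.X₁).symm (isFinLocFree_twF d h₁)
    have g₂ := DQCoh.isFinLocFree_of_iso' (X.twComm d S.X₂).symm (isFinLocFree_twF d h₂)
    have g₃ := DQCoh.isFinLocFree_of_iso' (X.twComm d S.X₃).symm (isFinLocFree_twF d h₃)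
    rw [← SGA6Ext.cls_iso (X.twComm d S.X₁) g₁, ← SGA6Ext.cls_iso (X.twComm d S.X₂) g₂,
      ← SGA6Ext.cls_iso (X.twComm d S.X₃) g₃]
    exact K0Res.clSub_add (fun M => FlatMod.IsFinLocFree M)
      (PnReg.shortExact_tensor (ResDesc.isFinLocFree_of_isInvertible (X.inv_O d)) hS) g₁ g₂ g₃

variable {X}

theorem twK_cls (d : ℤ) {F : X.P.Modules} (hF : FlatMod.IsFinLocFree F) :
    X.twK d (SGA6Ext.cls F) = SGA6Ext.cls (X.twF d F) :=
  SGA6Ext.liftK_cls _ _ F hF

theorem twK_twK (a b c : ℤ) (h : a + b = c) (x : SGA6.Kvb X.P) : X.twK a (X.twK b x) = X.twK c x := by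
  have e : (X.twK a).comp (X.twK b) = X.twK c := SGA6Ext.hom_ext_cls fun F hF => by
    rw [AddMonoidHom.comp_apply, twK_cls b hF, twK_cls a (isFinLocFree_twF b hF), twK_cls c hF]
    obtain ⟨i⟩ := X.twF_twF F a b c h
    exact SGA6Ext.cls_iso i (isFinLocFree_twF a (isFinLocFree_twF b hF))
  exact DFunLike.congr_fun e x

theorem twK_zero (x : SGA6.Kvb X.P) : X.twK 0 x = x := by
  have e : X.twK 0 = AddMonoidHom.id _ := SGA6Ext.hom_ext_cls fun F hF => by
    obtain ⟨i⟩ := X.twF_zero F
    rw [twK_cls 0 hF]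
    exact SGA6Ext.cls_iso i (isFinLocFree_twF 0 hF)
  exact DFunLike.congr_fun e x

variable (X) in
/-- The classes `O(d) ⊗ π^* x`. -/
def Bun.gen (d : ℤ) : SGA6.Kvb T →+ SGA6.Kvb X.P := (X.twK d).comp (SGA6Ext.pullK X.π)

theorem gen_cls (d : ℤ) {M : T.Modules} (hM : FlatMod.IsFinLocFree M) :
    X.gen d (SGA6Ext.cls M) = SGA6Ext.cls (X.twF d ((Scheme.Modules.pullback X.π).obj M)) := by
  rw [Bun.gen, AddMonoidHom.comp_apply, SGA6Ext.pullK_cls _ hM, twK_cls d (isFLF_pull hM)]

theorem twK_gen (a b c : ℤ) (h : a + b = c) (x : SGA6.Kvb T) : X.twK a (X.gen b x) = X.gen c x :=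
  twK_twK a b c h _

theorem gen_zero (x : SGA6.Kvb T) : X.gen 0 x = SGA6Ext.pullK X.π x := by
  rw [Bun.gen, AddMonoidHom.comp_apply]
  exact twK_zero (SGA6Ext.pullK X.π x)

variable [CompactSpace T]

theorem pushK_gen_zero (x : SGA6.Kvb T) : X.pushK (X.gen 0 x) = x := by rw [gen_zero, pushK_pullK]

theorem pushK_gen_neg {i : ℕ} (hi : 1 ≤ i) (hin : i ≤ n) (x : SGA6.Kvb T) : X.pushK (X.gen (-(i : ℤ)) x) = 0 := by
  have e : X.pushK.comp (X.gen (-(i : ℤ))) = 0 := SGA6Ext.hom_ext_cls fun M hM => by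
    have hA := acy_twF_pull (X := X) hM (-(i : ℤ)) (by omega)
    rw [AddMonoidHom.comp_apply, gen_cls _ hM, pushK_cls hA]
    have hz := isZero_push_twF_pull (X := X) hM (-(i : ℤ)) (by omega) (by omega)
    have hf := DQCoh.isFinLocFree_of_isZero hz
    have h1 : (ShortComplex.mk (0 : (Scheme.Modules.pushforward X.π).obj (X.twF (-(i : ℤ)) ((Scheme.Modules.pullback X.π).obj M)) ⟶ _)
        (0 : _ ⟶ (Scheme.Modules.pushforward X.π).obj (X.twF (-(i : ℤ)) ((Scheme.Modules.pullback X.π).obj M))) zero_comp).ShortExact :=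
      { exact := ShortComplex.exact_of_isZero_X₂ _ hz
        mono_f := ⟨fun _ _ _ => hz.eq_of_tgt _ _⟩
        epi_g := ⟨fun _ _ _ => hz.eq_of_src _ _⟩ }
    exact left_eq_add.1 (K0Res.clSub_add (fun M => FlatMod.IsFinLocFree M) h1 hf hf hf)
  exact DFunLike.congr_fun e x

theorem cls_eq_sum {F : X.P.Modules} (hF : FlatMod.IsFinLocFree F) (hreg : X.IsReg F) :
    SGA6Ext.cls F = ∑ i : Fin (n + 1), X.gen (-((i : ℕ) : ℤ))
      ((-1 : ℤ) ^ (i : ℕ) • SGA6Ext.cls ((Scheme.Modules.pushforward X.π).obj (X.iterK F i))) := by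
  let K : ℕ → SGA6.Kvb X.P := fun i => X.twK (-(i : ℤ)) (SGA6Ext.cls (X.iterK F i))
  let P : ℕ → SGA6.Kvb T := fun i => SGA6Ext.cls ((Scheme.Modules.pushforward X.π).obj (X.iterK F i))
  have hstep : ∀ i : ℕ, X.gen (-(i : ℤ)) (P i) = K i + K (i + 1) := by
    intro i
    obtain ⟨hq, hr⟩ := iterK_spec (isQCoh_of_finLocFree hF) hreg i
    have hK := isFinLocFree_iterK hF hreg i
    haveI := epi_counit hq hr
    have hT := isFinLocFree_push hK (acyclic_of_reg hq hr)
    have hp := DerPerf.isFinLocFree_pullback X.π hT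
    have hker : FlatMod.IsFinLocFree (X.Ker (X.iterK F i)) := DCohLocus.isFinLocFree_kernel _ hp hK
    have h := K0Res.clSub_add (fun M => FlatMod.IsFinLocFree M) (shortExact_ker hq hr) hker hp hK
    have h' : SGA6Ext.pullK X.π (P i) = SGA6Ext.cls (X.Ker (X.iterK F i)) + SGA6Ext.cls (X.iterK F i) :=
      (SGA6Ext.pullK_cls _ hT).trans h
    have hnext : K (i + 1) = X.twK (-(i : ℤ)) (SGA6Ext.cls (X.Ker (X.iterK F i))) := by
      show X.twK (-((i + 1 : ℕ) : ℤ)) (SGA6Ext.cls (X.twF 1 (X.Ker (X.iterK F i)))) = _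
      rw [← twK_cls 1 hker, twK_twK (-((i + 1 : ℕ) : ℤ)) 1 (-(i : ℤ)) (by push_cast; ring)]
    rw [hnext, show X.gen (-(i : ℤ)) (P i) = X.twK (-(i : ℤ)) (SGA6Ext.pullK X.π (P i)) from rfl, h',
      map_add, add_comm]
  have htel : ∀ m : ℕ, ∑ i ∈ Finset.range m, (-1 : ℤ) ^ i • X.gen (-(i : ℤ)) (P i) =
      K 0 - (-1 : ℤ) ^ m • K m := by
    intro m
    induction m with
    | zero => simp
    | succ m ih =>
      rw [Finset.sum_range_succ, ih, hstep, pow_succ, smul_add]
      simp only [mul_neg_one, neg_smul]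
      abel
  have hz : SGA6Ext.cls (X.iterK F (n + 1)) = 0 := by
    have hz := isZero_iterK (isQCoh_of_finLocFree hF) hreg
    have hf := DQCoh.isFinLocFree_of_isZero hz
    have h1 : (ShortComplex.mk (0 : X.iterK F (n + 1) ⟶ X.iterK F (n + 1))
        (0 : X.iterK F (n + 1) ⟶ X.iterK F (n + 1)) zero_comp).ShortExact :=
      { exact := ShortComplex.exact_of_isZero_X₂ _ hz
        mono_f := ⟨fun _ _ _ => hz.eq_of_tgt _ _⟩
        epi_g := ⟨fun _ _ _ => hz.eq_of_src _ _⟩ }
    exact left_eq_add.1 (K0Res.clSub_add (fun M => FlatMod.IsFinLocFree M) h1 hf hf hf)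
  have h := htel (n + 1)
  rw [show K (n + 1) = 0 from (congrArg _ hz).trans (map_zero _), smul_zero, sub_zero,
    show K 0 = SGA6Ext.cls F from twK_zero _, ← Fin.sum_univ_eq_sum_range] at h
  rw [← h]
  exact Finset.sum_congr rfl fun i _ => (map_zsmul _ _ _).symm

variable (X) in
/-- The combinations of the negative twists. -/
def Bun.comb : (Fin (n + 1) → SGA6.Kvb T) →+ SGA6.Kvb X.P where
  toFun x := ∑ i : Fin (n + 1), X.gen (-((i : ℕ) : ℤ)) (x i)
  map_zero' := by simp
  map_add' x y := by simp [Finset.sum_add_distrib]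

theorem bijective_comb : Function.Bijective X.comb := by
  constructor
  · refine (injective_iff_map_eq_zero _).2 fun x hx => ?_
    have key : ∀ d : ℕ, ∀ i : Fin (n + 1), (i : ℕ) < d → x i = 0 := by
      intro d
      induction d with
      | zero => intro i hi; omega
      | succ d ih =>
        intro i hi
        rcases lt_or_ge (i : ℕ) d with h | h
        · exact ih i h
        have h' : ∀ j : Fin (n + 1), X.pushK (X.twK ((i : ℕ) : ℤ) (X.gen (-((j : ℕ) : ℤ)) (x j))) =
            if j = i then x i else 0 := fun j => by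
          rcases lt_trichotomy (j : ℕ) (i : ℕ) with hlt | heq | hgt
          · rw [ih j (by omega), map_zero, map_zero, map_zero, if_neg (fun hh => by rw [hh] at hlt; omega)]
          · obtain rfl : j = i := Fin.ext heq
            rw [twK_gen _ _ 0 (by ring), pushK_gen_zero, if_pos rfl]
          · rw [twK_gen _ _ (-(((j : ℕ) - (i : ℕ) : ℕ) : ℤ)) (by omega),
              pushK_gen_neg (by omega) (by omega), if_neg (fun hh => by rw [hh] at hgt; omega)]
        have h0 := congrArg (fun z => X.pushK (X.twK ((i : ℕ) : ℤ) z)) hx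
        simp only [Bun.comb, AddMonoidHom.coe_mk, ZeroHom.coe_mk, map_sum, map_zero, h', Finset.sum_ite_eq',
          Finset.mem_univ, if_true] at h0
        exact h0
    exact funext fun i => key (n + 1) i i.isLt
  · intro z
    have hm : z ∈ X.comb.range := by
      rw [← ofReg_toReg z]
      refine sub_induction (Q := fun y => X.ofReg y ∈ X.comb.range) (by simp)
        (fun y hy => by rw [map_neg]; exact neg_mem hy) (fun y y' hy hy' => by rw [map_add]; exact add_mem hy hy')
        (fun F hF => ?_) _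
      show X.ofReg (X.clr F) ∈ _
      rw [show X.ofReg (X.clr F) = SGA6Ext.cls F from PnReg.liftSub_cl _ _ hF, cls_eq_sum hF.1 hF.2]
      exact ⟨_, rfl⟩
    exact hm

variable (X) in
/-- The combinations of the positive twists. -/
def Bun.combPos : (Fin (n + 1) → SGA6.Kvb T) →+ SGA6.Kvb X.P where
  toFun x := ∑ i : Fin (n + 1), X.gen ((i : ℕ) : ℤ) (x i)
  map_zero' := by simp
  map_add' x y := by simp [Finset.sum_add_distrib]

theorem combPos_eq (x : Fin (n + 1) → SGA6.Kvb T) :
    X.combPos x = X.twK (n : ℤ) (X.comb fun i => x (Fin.rev i)) := by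
  simp only [Bun.combPos, Bun.comb, AddMonoidHom.coe_mk, ZeroHom.coe_mk, map_sum]
  refine Fintype.sum_equiv Fin.revPerm _ _ fun i => ?_
  rw [twK_gen _ _ ((i : ℕ) : ℤ) (by simp only [Fin.revPerm_apply, Fin.val_rev]; omega)]
  simp [Fin.revPerm_apply]

theorem bijective_combPos : Function.Bijective X.combPos := by
  have ht : Function.Bijective (X.twK (n : ℤ)) := Function.bijective_iff_has_inverse.2
    ⟨X.twK (-(n : ℤ)), fun z => by rw [twK_twK _ _ 0 (by ring), twK_zero],
      fun z => by rw [twK_twK _ _ 0 (by ring), twK_zero]⟩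
  rw [show (X.combPos : (Fin (n + 1) → SGA6.Kvb T) → SGA6.Kvb X.P) =
    X.twK (n : ℤ) ∘ X.comb ∘ (fun x i => x (Fin.rev i)) from funext combPos_eq]
  refine ht.comp (bijective_comb.comp ?_)
  exact (Function.Involutive.bijective fun x => funext fun i => by simp)

end Groth.Agent.PBReg
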