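import Groth.Agent.PBReg.Chart
import Groth.Agent.PnReg.Resol

/-!
Exact sequences of regular sheaves on a projective bundle, evaluation, inverse images from the base.
-/

set_option autoImplicit false
set_option linter.unusedSectionVars false
set_option linter.style.haveILetI false
set_option backward.isDefEq.respectTransparency false
set_option backward.isDefEq.respectTransparency.types false
set_option maxHeartbeats 1000000

universe u

open CategoryTheory CategoryTheory.Limits AlgebraicGeometry TopologicalSpace Opposite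
open Groth.Agent.PnReg (Ot Reg)

noncomputable section

namespace Groth.Agent.PBReg

variable {n : ℕ} {T : Scheme.{u}} {X : Bun n T}

theorem isReg_twF {F : X.P.Modules} (hF : Coh.IsQCoh F) (hreg : X.IsReg F) (m : ℕ) : X.IsReg (X.twF (m : ℤ) F) :=
  (isReg_iff (isQCoh_twF _ hF)).2 fun V c => (c.reg_twF (m : ℤ) F).2 (by
    simpa using PnReg.reg_add (c.isQCoh hF) ((isReg_iff hF).1 hreg V c) m)

theorem isZero_rpush_of_reg {F : X.P.Modules} (hF : Coh.IsQCoh F) (hreg : X.IsReg F) (i : ℕ) (hi : 1 ≤ i) :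
    IsZero ((Coh.RpushAb X.π i).obj (Coh.toAb F)) :=
  (isZero_iff F hF i).2 fun V c => PnReg.hh_of_reg (c.isQCoh hF) ((isReg_iff hF).1 hreg V c) i hi

variable {S : ShortComplex X.P.Modules}

theorem isReg_X2 (hS : S.ShortExact) (h₁ : Coh.IsQCoh S.X₁) (h₂ : Coh.IsQCoh S.X₂) (h₃ : Coh.IsQCoh S.X₃)
    (r₁ : X.IsReg S.X₁) (r₃ : X.IsReg S.X₃) : X.IsReg S.X₂ :=
  (isReg_iff h₂).2 fun V c =>
    PnReg.reg_X2 (c.shortExact hS) ((isReg_iff h₁).1 r₁ V c) ((isReg_iff h₃).1 r₃ V c)

theorem isReg_X3 (hS : S.ShortExact) (h₁ : Coh.IsQCoh S.X₁) (h₂ : Coh.IsQCoh S.X₂) (h₃ : Coh.IsQCoh S.X₃)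
    (r₂ : X.IsReg S.X₂) (r₁ : X.IsReg (X.twF 1 S.X₁)) : X.IsReg S.X₃ :=
  (isReg_iff h₃).2 fun V c =>
    PnReg.reg_X3 (c.shortExact hS) ((isReg_iff h₂).1 r₂ V c) (by
      rw [zero_add]
      exact (c.reg_twF 1 S.X₁).1 ((isReg_iff (isQCoh_twF _ h₁)).1 r₁ V c))

theorem Bun.Chart.opensRange {V : T.Opens} (c : X.Chart V) : c.q.opensRange = X.π ⁻¹ᵁ V := by
  refine TopologicalSpace.Opens.ext ?_
  refine c.range.trans ?_
  exact Scheme.Opens.range_ι _

theorem Bun.Chart.surjective_map {V : T.Opens} (c : X.Chart V) {M N : X.P.Modules} (g : M ⟶ N)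
    (h : Function.Surjective (g.app (X.π ⁻¹ᵁ V))) : Function.Surjective ((c.Q.map g).app ⊤) := by
  let α := Scheme.Modules.restrictFunctorIsoPullback c.q
  have h' : Function.Surjective (((Scheme.Modules.restrictFunctor c.q).map g).app ⊤) := by
    have he : c.q ''ᵁ (⊤ : (CohB1.ProjSpace n Γ(T, V)).Opens) = X.π ⁻¹ᵁ V :=
      (Scheme.Hom.image_top_eq_opensRange c.q).trans c.opensRange
    change Function.Surjective (g.app (c.q ''ᵁ ⊤))
    rw [he]
    exact h
  intro z
  obtain ⟨w, hw⟩ := h' ((α.inv.app N).app ⊤ z)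
  refine ⟨(α.hom.app M).app ⊤ w, ?_⟩
  refine (congrArg (RegKos.ev w) (α.hom.naturality g)).symm.trans ?_
  refine (congrArg ((α.hom.app N).app ⊤) hw).trans ?_
  exact congrArg (RegKos.ev z) (α.inv_hom_id_app N)

theorem isQCoh_push {F : X.P.Modules} (hF : Coh.IsQCoh F) :
    Coh.IsQCoh ((Scheme.Modules.pushforward X.π).obj F) :=
  haveI : F.IsQuasicoherent := hF
  QC.isQCoh_pushforward (M := F) X.π

theorem surjective_of_epi_push {M N : X.P.Modules} (hM : Coh.IsQCoh M) (hN : Coh.IsQCoh N)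
    (g : M ⟶ N) (hepi : Epi ((Scheme.Modules.pushforward X.π).map g)) {V : T.Opens}
    (hV : IsAffineOpen V) : Function.Surjective (g.app (X.π ⁻¹ᵁ V)) :=
  haveI := hepi
  QC.app_surjective_of_epi hV (isQCoh_push hM) (isQCoh_push hN) ((Scheme.Modules.pushforward X.π).map g)

theorem isReg_X1 (hS : S.ShortExact) (h₁ : Coh.IsQCoh S.X₁) (h₂ : Coh.IsQCoh S.X₂) (h₃ : Coh.IsQCoh S.X₃)
    (r₂ : X.IsReg (X.twF 1 S.X₂)) (r₃ : X.IsReg S.X₃)
    (hepi : Epi ((Scheme.Modules.pushforward X.π).map S.g)) : X.IsReg (X.twF 1 S.X₁) := by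
  refine (isReg_iff (isQCoh_twF _ h₁)).2 fun V c => (c.reg_twF 1 S.X₁).2 ?_
  have hs := c.surjective_map S.g (surjective_of_epi_push h₂ h₃ S.g hepi c.aff)
  have e₂ : Reg (c.Q.obj S.X₂) 1 := (c.reg_twF 1 S.X₂).1 ((isReg_iff (isQCoh_twF _ h₂)).1 r₂ V c)
  have e₃ : Reg (c.Q.obj S.X₃) 0 := (isReg_iff h₃).1 r₃ V c
  exact PnReg.reg_X1 (S := S.map c.Q) (c.shortExact hS) e₂ e₃ hs

/-- Regular sheaves are generated by the sections over preimages of affine opens. -/
theorem epi_counit {F : X.P.Modules} (hF : Coh.IsQCoh F) (hreg : X.IsReg F) :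
    Epi ((Scheme.Modules.pullbackPushforwardAdjunction X.π).counit.app F) := by
  let adj := Scheme.Modules.pullbackPushforwardAdjunction X.π
  refine InvGen.epi_of_locally _ fun U s x hx => ?_
  obtain ⟨V, hxV, -, ⟨c⟩⟩ := exists_chart X (U := ⊤) (y := X.π.base x) trivial
  let P : X.P.Opens := X.π ⁻¹ᵁ V
  obtain ⟨y, rfl⟩ : ∃ y, c.q y = x := by
    have : x ∈ Set.range (X.π ⁻¹ᵁ V).ι := by rw [Scheme.Opens.range_ι]; exact hxV
    rw [← c.range] at this
    exact this
  let R := Scheme.Modules.restrictFunctor c.q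
  obtain ⟨W, hW, hyW, hmem⟩ := PnReg.generated_of_reg ((R.obj F)) (QC.isQCoh_restrict c.q hF)
    (PnReg.reg_of_iso ((Scheme.Modules.restrictFunctorIsoPullback c.q).app F).symm ((isReg_iff hF).1 hreg V c))
    (U := c.q ⁻¹ᵁ U) (QC.res F (show c.q ''ᵁ (c.q ⁻¹ᵁ U) ≤ U from
      (Scheme.Hom.image_preimage_eq_opensRange_inf c.q U).le.trans inf_le_right) s) hx
  have hWU : c.q ''ᵁ W ≤ U := (Scheme.Hom.image_mono c.q hW).trans
    ((Scheme.Hom.image_preimage_eq_opensRange_inf c.q U).le.trans inf_le_right)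
  refine ⟨c.q ''ᵁ W, hWU, ⟨y, hyW, rfl⟩, ?_⟩
  suffices h : ∀ t ∈ Submodule.span Γ(CohB1.ProjSpace n Γ(T, V), W)
      (Set.range fun g : Γ(R.obj F, ⊤) => QC.res (R.obj F) (le_top : W ≤ ⊤) g),
      ∃ w, (adj.counit.app F).app (c.q ''ᵁ W) w = (show Γ(F, c.q ''ᵁ W) from t) by
    obtain ⟨w, hw⟩ := h _ hmem
    exact ⟨w, hw.trans ((QC.res_res F _ _ s).trans rfl)⟩
  intro t ht
  induction ht using Submodule.span_induction with
  | zero => exact ⟨0, map_zero _⟩
  | add a b _ _ ha hb =>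
    obtain ⟨p, hp⟩ := ha
    obtain ⟨q, hq⟩ := hb
    exact ⟨p + q, (map_add _ p q).trans (congrArg₂ (· + ·) hp hq)⟩
  | smul r a _ ha =>
    obtain ⟨p, hp⟩ := ha
    refine ⟨(c.q.appIso W).inv r • p, (Scheme.Modules.Hom.app_smul _ _ p).trans ?_⟩
    exact congrArg (fun z => (c.q.appIso W).inv r • z) hp
  | mem a ha =>
    obtain ⟨g, rfl⟩ := ha
    have hP : P ≤ c.q ''ᵁ (⊤ : (CohB1.ProjSpace n Γ(T, V)).Opens) :=
      ((Scheme.Hom.image_top_eq_opensRange c.q).trans c.opensRange).ge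
    have hPW : c.q ''ᵁ W ≤ P := (Scheme.Hom.image_mono c.q le_top).trans
      ((Scheme.Hom.image_top_eq_opensRange c.q).trans c.opensRange).le
    let g' : Γ(F, P) := QC.res F hP g
    refine ⟨QC.res _ hPW ((adj.unit.app ((Scheme.Modules.pushforward X.π).obj F)).app V g'), ?_⟩
    rw [← QC.app_res]
    refine (congrArg (QC.res F hPW) (congrArg (fun χ : (Scheme.Modules.pushforward X.π).obj F ⟶
      (Scheme.Modules.pushforward X.π).obj F => χ.app V g') (adj.right_triangle_components F))).trans ?_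
    exact (QC.res_res F _ _ g).trans rfl

/-- Inverse images from the base, in a chart. -/
def Bun.Chart.pullIso {V : T.Opens} (c : X.Chart V) (M : T.Modules) :
    c.Q.obj ((Scheme.Modules.pullback X.π).obj M) ≅
      (Scheme.Modules.pullback (CohB1.ProjSpace.toSpec n Γ(T, V))).obj
        ((Scheme.Modules.pullback c.aff.fromSpec).obj M) :=
  (Scheme.Modules.pullbackComp c.q X.π).app M ≪≫ (Scheme.Modules.pullbackCongr c.fac).app M ≪≫
    ((Scheme.Modules.pullbackComp (CohB1.ProjSpace.toSpec n Γ(T, V)) c.aff.fromSpec).app M).symm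

/-- Inverse images from the base are regular in all non-negative twists. -/
theorem isReg_twF_pull {M : T.Modules} (hM : Coh.IsQCoh M) (m : ℕ) :
    X.IsReg (X.twF (m : ℤ) ((Scheme.Modules.pullback X.π).obj M)) :=
  (isReg_iff (isQCoh_twF _ (QC.isQCoh_pullback _ hM))).2 fun V c => (c.reg_twF (m : ℤ) _).2
    (PnReg.reg_of_iso (c.pullIso M).symm
      (PnReg.reg_pull (QC.isQCoh_pullback c.aff.fromSpec hM) (Int.natCast_nonneg m)))

theorem isReg_pull {M : T.Modules} (hM : Coh.IsQCoh M) : X.IsReg ((Scheme.Modules.pullback X.π).obj M) := by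
  obtain ⟨e⟩ := X.twF_zero ((Scheme.Modules.pullback X.π).obj M)
  exact isReg_of_iso e (isReg_twF_pull hM 0)

/-- Sections of inverse images over a chart come from the base. -/
theorem surjective_unit {M : T.Modules} (hM : Coh.IsQCoh M) {V : T.Opens} (c : X.Chart V) :
    Function.Surjective (((Scheme.Modules.pullbackPushforwardAdjunction X.π).unit.app M).app V) := by
  refine PnReg.surjective_unit_left c.q X.π M V ?_ (PnReg.bijective_unit_open c.q _ c.opensRange.ge).1
  refine PnReg.surjective_unit_congr c.fac.symm M V (PnReg.surjective_unit_comp _ _ M V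
    (PnReg.bijective_unit_open c.aff.fromSpec M c.aff.opensRange_fromSpec.ge).2 ?_)
  exact PnReg.surjective_unit_top c.aff.fromSpec_preimage_self (PnReg.unit_surjective (QC.isQCoh_pullback _ hM))

/-- Evaluation is injective on sections over a chart. -/
theorem injective_counit {F : X.P.Modules} (hF : Coh.IsQCoh F) {V : T.Opens} (c : X.Chart V) :
    Function.Injective
      (((Scheme.Modules.pullbackPushforwardAdjunction X.π).counit.app F).app (X.π ⁻¹ᵁ V)) := by
  let adj := Scheme.Modules.pullbackPushforwardAdjunction X.π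
  have hl : ∀ m, (adj.counit.app F).app (X.π ⁻¹ᵁ V)
      ((adj.unit.app ((Scheme.Modules.pushforward X.π).obj F)).app V m) = m := fun m =>
    congrArg (fun χ : (Scheme.Modules.pushforward X.π).obj F ⟶
      (Scheme.Modules.pushforward X.π).obj F => χ.app V m) (adj.right_triangle_components F)
  intro a b hab
  obtain ⟨x, rfl⟩ := surjective_unit (isQCoh_push hF) c a
  obtain ⟨y, rfl⟩ := surjective_unit (isQCoh_push hF) c b
  rw [hl, hl] at hab
  rw [hab]

/-- The kernel of the evaluation. -/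
abbrev Bun.Ker (X : Bun n T) (F : X.P.Modules) : X.P.Modules :=
  kernel ((Scheme.Modules.pullbackPushforwardAdjunction X.π).counit.app F)

theorem isQCoh_ker {F : X.P.Modules} (hF : Coh.IsQCoh F) : Coh.IsQCoh (X.Ker F) :=
  QC.isQCoh_kernel (QC.isQCoh_pullback _ (isQCoh_push hF)) hF _

theorem shortExact_ker {F : X.P.Modules} (hF : Coh.IsQCoh F) (hreg : X.IsReg F) :
    (ShortComplex.mk (kernel.ι ((Scheme.Modules.pullbackPushforwardAdjunction X.π).counit.app F))
      ((Scheme.Modules.pullbackPushforwardAdjunction X.π).counit.app F) (kernel.condition _)).ShortExact :=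
  haveI := epi_counit hF hreg
  { exact := ShortComplex.exact_kernel _ }

theorem isReg_ker {F : X.P.Modules} (hF : Coh.IsQCoh F) (hreg : X.IsReg F) : X.IsReg (X.twF 1 (X.Ker F)) := by
  let adj := Scheme.Modules.pullbackPushforwardAdjunction X.π
  let S := ShortComplex.mk (kernel.ι (adj.counit.app F)) (adj.counit.app F) (kernel.condition _)
  have hS : S.ShortExact := shortExact_ker hF hreg
  have h₁ : Coh.IsQCoh S.X₁ := isQCoh_ker hF
  have h₂ : Coh.IsQCoh S.X₂ := QC.isQCoh_pullback _ (isQCoh_push hF)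
  have r₂ : X.IsReg (X.twF 1 S.X₂) := by
    have h := isReg_twF_pull (X := X) (isQCoh_push hF) 1
    rwa [Nat.cast_one] at h
  have he : Epi ((Scheme.Modules.pushforward X.π).map S.g) :=
    (SplitEpi.mk (adj.unit.app ((Scheme.Modules.pushforward X.π).obj F))
      (adj.right_triangle_components F)).epi
  have hfin : X.IsReg (X.twF 1 S.X₁) := isReg_X1 hS h₁ h₂ hF r₂ hreg he
  exact hfin

/-- The successive kernels. -/
def Bun.iterK (X : Bun n T) (F : X.P.Modules) : ℕ → X.P.Modules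
  | 0 => F
  | j + 1 => X.twF 1 (X.Ker (X.iterK F j))

variable {F : X.P.Modules} (hF : Coh.IsQCoh F) (hreg : X.IsReg F)

include hF hreg in
theorem iterK_spec : ∀ j, Coh.IsQCoh (X.iterK F j) ∧ X.IsReg (X.iterK F j)
  | 0 => ⟨hF, hreg⟩
  | j + 1 => ⟨isQCoh_twF 1 (isQCoh_ker (iterK_spec j).1), isReg_ker (iterK_spec j).1 (iterK_spec j).2⟩

theorem hh_ker_zero {G : X.P.Modules} (hG : Coh.IsQCoh G) {V : T.Opens} (c : X.Chart V) :
    Subsingleton (Coh.HH (CohB1.ProjSpace n Γ(T, V)) (c.Q.obj (X.Ker G)) 0) := by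
  refine (c.subsingleton_iff _ (isQCoh_ker hG) 0).1 ?_
  haveI : Subsingleton Γ(X.Ker G, X.π ⁻¹ᵁ V) := subsingleton_of_forall_eq 0 fun z => by
    let ε := (Scheme.Modules.pullbackPushforwardAdjunction X.π).counit.app G
    refine Groth.Agent.QC.app_injective_of_mono (kernel.ι ε) _ ?_
    rw [map_zero]
    refine injective_counit hG c ?_
    rw [map_zero]
    exact congrArg (RegKos.ev z) (kernel.condition ε)
  exact @Equiv.subsingleton _ _ (SiteCoh.hu0 (Coh.toAb (X.Ker G)) (X.π ⁻¹ᵁ V)).toEquiv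
    (inferInstanceAs (Subsingleton Γ(X.Ker G, X.π ⁻¹ᵁ V)))

theorem shortExact_ker_chart {G : X.P.Modules} (hG : Coh.IsQCoh G) (hr : X.IsReg G) {V : T.Opens} (c : X.Chart V) :
    ∃ (N : (Spec (CommRingCat.of Γ(T, V))).Modules) (_ : Coh.IsQCoh N)
      (a : c.Q.obj (X.Ker G) ⟶ (Scheme.Modules.pullback (CohB1.ProjSpace.toSpec n Γ(T, V))).obj N)
      (b : (Scheme.Modules.pullback (CohB1.ProjSpace.toSpec n Γ(T, V))).obj N ⟶ c.Q.obj G) (w : a ≫ b = 0),
      (ShortComplex.mk a b w).ShortExact := by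
  let adj := Scheme.Modules.pullbackPushforwardAdjunction X.π
  let i := c.pullIso ((Scheme.Modules.pushforward X.π).obj G)
  refine ⟨_, QC.isQCoh_pullback c.aff.fromSpec (isQCoh_push hG), c.Q.map (kernel.ι (adj.counit.app G)) ≫ i.hom,
    i.inv ≫ c.Q.map (adj.counit.app G), ?_, ?_⟩
  · rw [Category.assoc, Iso.hom_inv_id_assoc, ← Functor.map_comp, kernel.condition, Functor.map_zero]
  · exact ShortComplex.shortExact_of_iso
      (ShortComplex.isoMk (S₁ := ShortComplex.map
          (ShortComplex.mk (kernel.ι (adj.counit.app G)) (adj.counit.app G) (kernel.condition _)) c.Q)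
        (Iso.refl _) i (Iso.refl _) (Category.id_comp _)
        ((i.hom_inv_id_assoc _).trans (Category.comp_id _).symm)) (c.shortExact (shortExact_ker hG hr))

include hF hreg in
theorem hh_iterK : ∀ j a : ℕ, a ≤ j → ∀ (V : T.Opens) (c : X.Chart V),
    Subsingleton (Coh.HH (CohB1.ProjSpace n Γ(T, V))
      (CohB1.tensorMod (c.Q.obj (X.Ker (X.iterK F j))) (Ot Γ(T, V) n (-(a : ℤ)))) a) := by
  intro j
  induction j with
  | zero =>
    intro a ha V c
    obtain rfl : a = 0 := by omega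
    obtain ⟨e⟩ := PnReg.nonempty_twistF_zero (c.Q.obj (X.Ker (X.iterK F 0)))
    exact CohQC.hh_subsingleton_of_iso e.symm 0 (hh_ker_zero (iterK_spec hF hreg 0).1 c)
  | succ j ih =>
    intro a ha V c
    rcases a with _ | a
    · obtain ⟨e⟩ := PnReg.nonempty_twistF_zero (c.Q.obj (X.Ker (X.iterK F (j + 1))))
      exact CohQC.hh_subsingleton_of_iso e.symm 0 (hh_ker_zero (iterK_spec hF hreg (j + 1)).1 c)
    obtain ⟨hK, hR⟩ := iterK_spec hF hreg (j + 1)
    obtain ⟨N, hN, α, β, w, hS⟩ := shortExact_ker_chart hK hR c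
    haveI : Subsingleton (Coh.HH (CohB1.ProjSpace n Γ(T, V))
        (CohB1.tensorMod (c.Q.obj (X.iterK F (j + 1))) (Ot Γ(T, V) n (-((a + 1 : ℕ) : ℤ)))) a) := by
      obtain ⟨e⟩ := c.nonempty_twF 1 (X.Ker (X.iterK F j))
      obtain ⟨e'⟩ := PnReg.nonempty_twistF (c.Q.obj (X.Ker (X.iterK F j))) 1 (-((a + 1 : ℕ) : ℤ)) (-(a : ℤ))
        (by push_cast; ring)
      exact CohQC.hh_subsingleton_of_iso ((PicGrp.tensorModIso e (Iso.refl _)) ≪≫ e').symm a (ih a (by omega) V c)
    refine LinRes.hh_left (PnReg.shortExact_twist hS (-((a + 1 : ℕ) : ℤ))) a (fun x => ⟨0, Subsingleton.elim _ _⟩) ?_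
    have h := PnReg.reg_pull (n := n) hN le_rfl (a + 1) (by omega)
    rwa [zero_sub] at h

include hF hreg in
/-- The last kernel vanishes. -/
theorem isZero_ker_n : IsZero (X.Ker (X.iterK F n)) := by
  have hG := isQCoh_ker (iterK_spec hF hreg n).1
  have hregG : X.IsReg (X.Ker (X.iterK F n)) := (isReg_iff hG).2 fun V c q hq => by
    rw [zero_sub]
    rcases lt_or_ge n q with h | h
    · exact PnReg.hh_above _ (PnReg.isQCoh_twist (c.isQCoh hG) _) q h
    · exact hh_iterK hF hreg n q h V c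
  haveI := epi_counit hG hregG
  have hp : IsZero ((Scheme.Modules.pushforward X.π).obj (X.Ker (X.iterK F n))) := by
    choose V hyV _ hc using fun y => exists_chart X (U := ⊤) (y := y) trivial
    refine CohFinite.isZero_of_affine_cover _ (isQCoh_push hG) V (fun y => (hc y).some.aff)
      (fun y => ⟨y, hyV y⟩) fun y s => ?_
    let ε := (Scheme.Modules.pullbackPushforwardAdjunction X.π).counit.app (X.iterK F n)
    let z : Γ(X.Ker (X.iterK F n), X.π ⁻¹ᵁ V y) := s
    show z = 0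
    refine Groth.Agent.QC.app_injective_of_mono (kernel.ι ε) _ ?_
    rw [map_zero]
    refine injective_counit (iterK_spec hF hreg n).1 (hc y).some ?_
    rw [map_zero]
    exact congrArg (RegKos.ev z) (kernel.condition ε)
  have h0 := (Scheme.Modules.pullback X.π).map_isZero hp
  exact (IsZero.iff_id_eq_zero _).2 ((cancel_epi
    ((Scheme.Modules.pullbackPushforwardAdjunction X.π).counit.app (X.Ker (X.iterK F n)))).1 (h0.eq_of_src _ _))

include hF hreg in
theorem isZero_iterK : IsZero (X.iterK F (n + 1)) := isZero_twF 1 (isZero_ker_n hF hreg)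

end Groth.Agent.PBReg
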