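import Groth.Agent.CycPB.ProjFree
import Groth.Agent.PBundle.Local
import Groth.Agent.W7Hull.InvDual
import Groth.Agent.PnReg.Push
import Groth.Agent.PicFam.Pn

/-!
Projective bundles with all twists and affine charts.
-/

set_option autoImplicit false
set_option linter.unusedSectionVars false
set_option linter.style.haveILetI false
set_option backward.isDefEq.respectTransparency false
set_option backward.isDefEq.respectTransparency.types false
set_option maxHeartbeats 1000000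

universe u

open CategoryTheory CategoryTheory.Limits AlgebraicGeometry TopologicalSpace Opposite

noncomputable section

namespace Groth.Agent.PBReg

/-- A projective bundle of relative dimension `n`. -/
structure Bun (n : ℕ) (T : Scheme.{u}) where
  P : Scheme.{u}
  π : P ⟶ T
  E : T.Modules
  hE : FlatMod.IsFinLocFreeOfRank (n + 1) E
  O1 : P.Modules
  q : (Scheme.Modules.pullback π).obj E ⟶ O1
  hB : KRR.IsProjBundle π E O1 q

variable {n : ℕ} {T : Scheme.{u}} (X : Bun n T)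

theorem Bun.inv_O1 : PicF.IsInvertible X.O1 := PBundle.isInvertible X.hB

/-- An inverse of the tautological bundle. -/
def Bun.Oinv : X.P.Modules := (W7Hull.exists_tensor_inverse X.inv_O1).choose

theorem Bun.inv_Oinv : PicF.IsInvertible X.Oinv := (W7Hull.exists_tensor_inverse X.inv_O1).choose_spec.1

theorem Bun.mul_Oinv : Nonempty (CohB1.tensorMod X.O1 X.Oinv ≅ Coh.structureModule X.P) :=
  (W7Hull.exists_tensor_inverse X.inv_O1).choose_spec.2

/-- The twists. -/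
def Bun.O : ℤ → X.P.Modules
  | (k : ℕ) => CohB1.tensorPow X.O1 k
  | Int.negSucc k => CohB1.tensorPow X.Oinv (k + 1)

theorem Bun.O_neg (k : ℕ) : Nonempty (X.O (-(k : ℤ)) ≅ CohB1.tensorPow X.Oinv k) := by
  rcases k with _ | k
  · exact ⟨Iso.refl _⟩
  · exact ⟨Iso.refl _⟩

theorem Bun.O_zero : Nonempty (X.O 0 ≅ Coh.structureModule X.P) := ⟨Iso.refl _⟩

theorem Bun.O_succ (a : ℤ) : Nonempty (CohB1.tensorMod (X.O a) X.O1 ≅ X.O (a + 1)) := by
  cases a with
  | ofNat k => exact ⟨Iso.refl _⟩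
  | negSucc k =>
    obtain ⟨m⟩ := X.mul_Oinv
    let A := CohB1.tensorPow X.Oinv k
    let i : CohB1.tensorMod (CohB1.tensorMod A X.Oinv) X.O1 ≅ A :=
      TMul.assocIso A X.Oinv X.O1 ≪≫ PicGrp.tensorModIso (Iso.refl A) (TMul.commIso X.Oinv X.O1 ≪≫ m) ≪≫
        TMul.commIso A _ ≪≫ TMul.leftUnitIso A
    rcases k with _ | k
    · exact ⟨i⟩
    · exact ⟨i⟩

theorem Bun.O_add (a : ℤ) : ∀ b : ℤ, Nonempty (CohB1.tensorMod (X.O a) (X.O b) ≅ X.O (a + b)) := by
  intro b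
  induction b using Int.induction_on with
  | zero =>
    obtain ⟨z⟩ := X.O_zero
    exact ⟨PicGrp.tensorModIso (Iso.refl _) z ≪≫ TMul.commIso _ _ ≪≫ TMul.leftUnitIso _ ≪≫ eqToIso (by rw [add_zero])⟩
  | succ b ih =>
    obtain ⟨e⟩ := ih
    obtain ⟨f⟩ := X.O_succ (b : ℤ)
    obtain ⟨g⟩ := X.O_succ (a + b)
    exact ⟨PicGrp.tensorModIso (Iso.refl _) f.symm ≪≫ (TMul.assocIso _ _ _).symm ≪≫
      PicGrp.tensorModIso e (Iso.refl _) ≪≫ g ≪≫ eqToIso (by rw [add_assoc])⟩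
  | pred b ih =>
    obtain ⟨e⟩ := ih
    obtain ⟨f⟩ := X.O_succ (-(b : ℤ) - 1)
    obtain ⟨g⟩ := X.O_succ (a + (-(b : ℤ) - 1))
    obtain ⟨m⟩ := X.mul_Oinv
    let c : ∀ M : X.P.Modules, CohB1.tensorMod (CohB1.tensorMod M X.O1) X.Oinv ≅ M := fun M =>
      TMul.assocIso M X.O1 X.Oinv ≪≫ PicGrp.tensorModIso (Iso.refl M) m ≪≫ TMul.commIso M _ ≪≫ TMul.leftUnitIso M
    let h : CohB1.tensorMod (CohB1.tensorMod (X.O a) (X.O (-(b : ℤ) - 1))) X.O1 ≅
        CohB1.tensorMod (X.O (a + (-(b : ℤ) - 1))) X.O1 :=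
      TMul.assocIso _ _ _ ≪≫ PicGrp.tensorModIso (Iso.refl _) (f ≪≫ eqToIso (by rw [sub_add_cancel])) ≪≫ e ≪≫
        eqToIso (congrArg X.O (by ring : a + -(b : ℤ) = a + (-(b : ℤ) - 1) + 1)) ≪≫ g.symm
    exact ⟨(c _).symm ≪≫ PicGrp.tensorModIso h (Iso.refl _) ≪≫ c _⟩

theorem Bun.inv_pow {L : X.P.Modules} (hL : PicF.IsInvertible L) : ∀ k : ℕ, PicF.IsInvertible (CohB1.tensorPow L k) :=
  fun k => TMul.isInvertible_tensorPow hL k

theorem Bun.inv_O (a : ℤ) : PicF.IsInvertible (X.O a) := by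
  cases a with
  | ofNat k => exact X.inv_pow X.inv_O1 k
  | negSucc k => exact X.inv_pow X.inv_Oinv (k + 1)

/-- An affine chart over an affine open of the base. -/
structure Bun.Chart (V : T.Opens) where
  aff : IsAffineOpen V
  q : CohB1.ProjSpace n Γ(T, V) ⟶ X.P
  imm : IsOpenImmersion q
  range : Set.range q = Set.range (X.π ⁻¹ᵁ V).ι
  fac : q ≫ X.π = CohB1.ProjSpace.toSpec n Γ(T, V) ≫ aff.fromSpec
  tw : ∀ d : ℤ, (Scheme.Modules.pullback q).obj (X.O d) ≅ Twist.twistProjSpace n Γ(T, V) d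

attribute [instance] Bun.Chart.imm

theorem nonempty_tw {V : T.Opens} (q : CohB1.ProjSpace n Γ(T, V) ⟶ X.P)
    (e : (Scheme.Modules.pullback q).obj X.O1 ≅ Twist.twistProjSpace n Γ(T, V) 1) (d : ℤ) :
    Nonempty ((Scheme.Modules.pullback q).obj (X.O d) ≅ Twist.twistProjSpace n Γ(T, V) d) := by
  let R := Γ(T, V)
  let Q := Scheme.Modules.pullback q
  have step : ∀ a : ℤ, Nonempty (Q.obj (X.O (a + 1)) ≅
      CohB1.tensorMod (Q.obj (X.O a)) (Twist.twistProjSpace n R 1)) := fun a => by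
    obtain ⟨f⟩ := X.O_succ a
    obtain ⟨k⟩ := TMul.nonempty_pullTensorIso q (X.O a) X.O1
    exact ⟨Q.mapIso f.symm ≪≫ k.symm ≪≫ PicGrp.tensorModIso (Iso.refl _) e⟩
  induction d using Int.induction_on with
  | zero =>
    obtain ⟨z⟩ := X.O_zero
    obtain ⟨w⟩ := PnReg.nonempty_twist_zero (R := R) (n := n)
    exact ⟨Q.mapIso z ≪≫ DerPerf.pullUnitIso q ≪≫ w.symm⟩
  | succ d ih =>
    obtain ⟨i⟩ := ih
    obtain ⟨s⟩ := step (d : ℤ)
    obtain ⟨t⟩ := PnReg.nonempty_twist_twist (R := R) (n := n) (d : ℤ) 1 ((d : ℤ) + 1) rfl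
    exact ⟨s ≪≫ PicGrp.tensorModIso i (Iso.refl _) ≪≫ t⟩
  | pred d ih =>
    obtain ⟨i⟩ := ih
    obtain ⟨s⟩ := step (-(d : ℤ) - 1)
    obtain ⟨t⟩ := PnReg.nonempty_twist_twist (R := R) (n := n) (-(d : ℤ)) (-1) (-(d : ℤ) - 1) (by ring)
    obtain ⟨u⟩ := PnReg.nonempty_twistF (R := R) (n := n) (Q.obj (X.O (-(d : ℤ) - 1))) 1 (-1) 0 (by norm_num)
    obtain ⟨z⟩ := PnReg.nonempty_twistF_zero (R := R) (n := n) (Q.obj (X.O (-(d : ℤ) - 1)))
    exact ⟨z.symm ≪≫ u.symm ≪≫ PicGrp.tensorModIso (s.symm ≪≫ Q.mapIso (eqToIso (by rw [sub_add_cancel])) ≪≫ i)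
      (Iso.refl _) ≪≫ t⟩

theorem nonempty_chart_of_free {V : T.Opens} (hV : IsAffineOpen V)
    (θ : (Scheme.Modules.pullback V.ι).obj X.E ≅ FlatMod.freeMod V.toScheme (n + 1)) :
    Nonempty (X.Chart V) := by
  let j := hV.fromSpec
  have hsq : IsPullback (pullback.fst X.π j) (pullback.snd X.π j) X.π j := IsPullback.of_hasPullback X.π j
  let θ' : (Scheme.Modules.pullback j).obj X.E ≅ FlatMod.freeMod (Spec Γ(T, V)) (n + 1) :=
    (Scheme.Modules.pullbackCongr hV.isoSpec_inv_ι.symm).app X.E ≪≫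
      ((Scheme.Modules.pullbackComp hV.isoSpec.inv V.ι).app X.E).symm ≪≫
      (Scheme.Modules.pullback hV.isoSpec.inv).mapIso θ ≪≫ DerPerf.pullFreeIso hV.isoSpec.inv (n + 1)
  obtain ⟨h, hg, e, -⟩ := PBundle.exists_iso (PBundle.of_moduleIso (PBundle.of_isPullback X.hB hsq) θ'.symm)
    (CycPB.isProjBundle_projSpace n Γ(T, V))
  let q : CohB1.ProjSpace n Γ(T, V) ⟶ X.P := h.hom ≫ pullback.fst X.π j
  have tw := fun d => nonempty_tw X q (((Scheme.Modules.pullbackComp h.hom (pullback.fst X.π j)).app X.O1).symm ≪≫ e) d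
  refine ⟨⟨hV, q, inferInstance, ?_, ?_, fun d => (tw d).some⟩⟩
  · rw [Scheme.Opens.range_ι, show Set.range q = Set.range (pullback.fst X.π j) from
      (Scheme.homeoOfIso h).surjective.range_comp (pullback.fst X.π j), Scheme.Pullback.range_fst,
      hV.range_fromSpec]
    rfl
  · rw [Category.assoc, hsq.w, ← Category.assoc, hg]

/-- Charts exist over all small affine opens. -/
theorem exists_chart_basis {U : T.Opens} {y : T} (hy : y ∈ U) :
    ∃ W : T.Opens, IsAffineOpen W ∧ y ∈ W ∧ W ≤ U ∧ ∀ V : T.Opens, IsAffineOpen V → V ≤ W → Nonempty (X.Chart V) := by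
  obtain ⟨U₀, hy₀, ⟨e⟩⟩ := X.hE y
  obtain ⟨W, hW, hyW, hWU⟩ := exists_isAffineOpen_mem_and_subset (X := T) (U := U ⊓ U₀) ⟨hy, hy₀⟩
  refine ⟨W, hW, hyW, fun z hz => (hWU hz).1, fun V hV hVW => ?_⟩
  obtain ⟨θ⟩ := PBundle.nonempty_free_of_le (fun z hz => (hWU (hVW hz)).2 : V ≤ U₀) e
  exact nonempty_chart_of_free X hV θ

theorem exists_chart {U : T.Opens} {y : T} (hy : y ∈ U) :
    ∃ (V : T.Opens), y ∈ V ∧ V ≤ U ∧ Nonempty (X.Chart V) := by
  obtain ⟨W, hW, hyW, hWU, h⟩ := exists_chart_basis X hy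
  exact ⟨W, hyW, hWU, h W hW le_rfl⟩

variable {X} {V : T.Opens} (c : X.Chart V)

theorem Bun.Chart.isPullback :
    IsPullback c.q (CohB1.ProjSpace.toSpec n Γ(T, V)) X.π c.aff.fromSpec := by
  refine (IsOpenImmersion.isPullback (CohB1.ProjSpace.toSpec n Γ(T, V)) c.q c.aff.fromSpec X.π c.fac ?_).flip
  refine TopologicalSpace.Opens.ext (Eq.trans ?_ c.range.symm)
  rw [Scheme.Opens.range_ι, c.aff.opensRange_fromSpec]

/-- A property local on the base that the projection to an affine has. -/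
theorem isLocal_prop {Q : MorphismProperty Scheme.{u}} [IsZariskiLocalAtTarget Q] (X : Bun n T)
    (h : ∀ R : CommRingCat.{u}, Q (CohB1.ProjSpace.toSpec n R)) : Q X.π := by
  choose V hyV _ hc using fun y => exists_chart X (U := ⊤) (y := y) trivial
  refine IsZariskiLocalAtTarget.of_iSup_eq_top V
    (top_le_iff.1 fun y _ => TopologicalSpace.Opens.mem_iSup.2 ⟨y, hyV y⟩) fun y => ?_
  let c := (hc y).some
  have h2 := (Arrow.isoMk (f := Arrow.mk (X.π ∣_ V y)) (g := Arrow.mk (CohB1.ProjSpace.toSpec n Γ(T, V y)))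
    ((IsOpenImmersion.isoOfRangeEq (X.π ⁻¹ᵁ V y).ι c.q c.range.symm)) c.aff.isoSpec ?_)
  · exact (Q.arrow_mk_iso_iff h2).2 (h _)
  · refine (cancel_mono c.aff.fromSpec).1 ?_
    simp only [Arrow.mk_hom, Category.assoc]
    rw [← c.fac, ← Category.assoc, IsOpenImmersion.isoOfRangeEq_hom_fac, c.aff.isoSpec_hom_fromSpec,
      morphismRestrict_ι]

theorem isProper (X : Bun n T) : IsProper X.π :=
  isLocal_prop X fun R => ProjMor.isProper_toSpec n R

theorem flat (X : Bun n T) : Flat X.π :=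
  isLocal_prop X fun R => (PerfGen.flat_lfp_toSpec n R).1

theorem lfp (X : Bun n T) : LocallyOfFinitePresentation X.π :=
  isLocal_prop X fun R => (PerfGen.flat_lfp_toSpec n R).2

instance (X : Bun n T) : IsProper X.π := isProper X
instance (X : Bun n T) : Flat X.π := flat X
instance (X : Bun n T) : LocallyOfFinitePresentation X.π := lfp X

end Groth.Agent.PBReg
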