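import Groth.Agent.PBReg.CohFree
import Groth.Agent.PBReg.Model
import Groth.Agent.PnReg.KFree

/-!
The basis of twists for coherent modules, with functors.
-/

set_option autoImplicit false
set_option linter.unusedSectionVars false
set_option linter.style.haveILetI false
set_option backward.isDefEq.respectTransparency false
set_option backward.isDefEq.respectTransparency.types false
set_option maxHeartbeats 1000000

universe u

open CategoryTheory CategoryTheory.Limits AlgebraicGeometry TopologicalSpace Opposite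

noncomputable section

namespace Groth.Agent.PBReg

variable {S P : Scheme.{u}} [IsNoetherian S] [IsNoetherian P]

theorem subsingleton_kcoh (P : Scheme.{u}) [IsNoetherian P] [IsEmpty ↥P] : Subsingleton (SGA6.Kcoh P) := by
  refine subsingleton_of_forall_eq 0 fun x => ?_
  refine PnReg.sub_induction (P := fun M : P.Modules => Coh.IsCoh M) (Q := fun x => x = 0) rfl
    (fun x hx => by rw [hx, neg_zero]) (fun x y hx hy => by rw [hx, hy, add_zero]) (fun F _ => ?_) x
  exact clC_zero (SGA6Ext.isZero_of_rank_zero fun x => isEmptyElim x)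

theorem bijective_twists (n : ℕ) (E : S.Modules) (hE : FlatMod.IsFinLocFreeOfRank n E) (f : P ⟶ S) (O1 : P.Modules)
    (q : (Scheme.Modules.pullback f).obj E ⟶ O1) (hPB : KRR.IsProjBundle f E O1 q)
    [(Scheme.Modules.pullback f).Additive] [PreservesFiniteLimits (Scheme.Modules.pullback f)]
    [PreservesFiniteColimits (Scheme.Modules.pullback f)]
    (hf : ∀ M : S.Modules, Coh.IsCoh M → Coh.IsCoh ((Scheme.Modules.pullback f).obj M))
    [PreservesFiniteLimits ((DCoh.tensorBi (X := P)).obj O1)] [PreservesFiniteColimits ((DCoh.tensorBi (X := P)).obj O1)]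
    (ht : ∀ M : P.Modules, Coh.IsCoh M → Coh.IsCoh (((DCoh.tensorBi (X := P)).obj O1).obj M)) :
    Function.Bijective (fun x : Fin n → SGA6.Kcoh S => ∑ i : Fin n,
      (⇑(SGA6.mapSub ((DCoh.tensorBi (X := P)).obj O1) (fun M : P.Modules => Coh.IsCoh M)
        (fun M : P.Modules => Coh.IsCoh M) ht))^[(i : ℕ)]
        (SGA6.mapSub (Scheme.Modules.pullback f) (fun M : S.Modules => Coh.IsCoh M)
          (fun M : P.Modules => Coh.IsCoh M) hf (x i))) := by
  rcases n with _ | r
  · have hz : IsZero E := SGA6Ext.isZero_of_rank_zero hE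
    haveI := hPB.epi
    haveI : (Scheme.Modules.pullback f).PreservesZeroMorphisms := inferInstance
    have hO : IsZero O1 := IsZero.of_epi q ((Scheme.Modules.pullback f).map_isZero hz)
    haveI := isEmpty_of_isZero hPB.invertible hO
    haveI := subsingleton_kcoh P
    exact ⟨fun a b _ => funext fun i => i.elim0, fun y => ⟨fun i => i.elim0, Subsingleton.elim _ _⟩⟩
  let B : Bun r S := ⟨P, f, E, hE, O1, q, hPB⟩
  haveI : IsNoetherian B.P := ‹IsNoetherian P›
  have key : ∀ (i : ℕ) (x : SGA6.Kcoh S),
      (⇑(SGA6.mapSub ((DCoh.tensorBi (X := P)).obj O1) (fun M : P.Modules => Coh.IsCoh M)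
        (fun M : P.Modules => Coh.IsCoh M) ht))^[i]
        (SGA6.mapSub (Scheme.Modules.pullback f) (fun M : S.Modules => Coh.IsCoh M)
          (fun M : P.Modules => Coh.IsCoh M) hf x) = B.genC (i : ℤ) x := by
    intro i
    induction i with
    | zero =>
      intro x
      rw [Function.iterate_zero, id_eq, Nat.cast_zero, genC_zero]
      refine DFunLike.congr_fun (hom_ext_clC (f := SGA6.mapSub (Scheme.Modules.pullback f)
        (fun M : S.Modules => Coh.IsCoh M) (fun M : P.Modules => Coh.IsCoh M) hf) (g := B.pullC) fun M hM => ?_) x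
      rw [pullC_cls hM, PnReg.mapSub_clSub _ _ _ _ hM]

    | succ i ih =>
      intro x
      rw [Function.iterate_succ_apply', ih, ← twC_genC (X := B) 1 (i : ℤ) ((i + 1 : ℕ) : ℤ) (by push_cast; ring)]
      refine DFunLike.congr_fun (hom_ext_clC (f := SGA6.mapSub ((DCoh.tensorBi (X := P)).obj O1)
        (fun M : P.Modules => Coh.IsCoh M) (fun M : P.Modules => Coh.IsCoh M) ht) (g := B.twC 1) fun M hM => ?_) _
      rw [twC_cls 1 hM, PnReg.mapSub_clSub _ _ _ _ hM]
      obtain ⟨z⟩ := B.O_zero
      obtain ⟨s⟩ := B.O_succ 0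
      exact clC_iso (PicGrp.tensorModIso ((TMul.leftUnitIso B.O1).symm ≪≫ PicGrp.tensorModIso z.symm (Iso.refl _) ≪≫
        s ≪≫ eqToIso (congrArg B.O (by norm_num))) (Iso.refl M)) (ht M hM)
  simp only [key]
  exact bijective_combPosC (X := B)

end Groth.Agent.PBReg
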