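import Groth.Agent.PBReg.Basic
import Groth.Agent.PnReg.Chart
import Groth.Agent.W7Hull.FlatTwist

/-!
Regularity on a projective bundle, chart by chart.
-/

set_option autoImplicit false
set_option linter.unusedSectionVars false
set_option linter.style.haveILetI false
set_option backward.isDefEq.respectTransparency false
set_option backward.isDefEq.respectTransparency.types false
set_option maxHeartbeats 1000000

universe u

open CategoryTheory CategoryTheory.Limits AlgebraicGeometry TopologicalSpace Opposite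
open Groth.Agent.PnReg (Ot Reg)

noncomputable section

namespace Groth.Agent.PBReg

variable {n : ℕ} {T : Scheme.{u}} {X : Bun n T}

/-- The twist of a module. -/
abbrev Bun.twF (X : Bun n T) (d : ℤ) (F : X.P.Modules) : X.P.Modules := CohB1.tensorMod (X.O d) F

/-- Castelnuovo–Mumford regularity on a projective bundle. -/
def Bun.IsReg (X : Bun n T) (F : X.P.Modules) : Prop :=
  ∀ i : ℕ, 1 ≤ i → IsZero ((Coh.RpushAb X.π i).obj (Coh.toAb (X.twF (-(i : ℤ)) F)))

variable {V : T.Opens} (c : X.Chart V)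

/-- Inverse images to a chart. -/
abbrev Bun.Chart.Q : X.P.Modules ⥤ (CohB1.ProjSpace n Γ(T, V)).Modules := Scheme.Modules.pullback c.q

theorem Bun.Chart.isQCoh {M : X.P.Modules} (hM : Coh.IsQCoh M) : Coh.IsQCoh (c.Q.obj M) :=
  QC.isQCoh_pullback c.q hM

theorem Bun.Chart.shortExact {S : ShortComplex X.P.Modules} (hS : S.ShortExact) : (S.map c.Q).ShortExact :=
  ShortComplex.shortExact_of_iso (S.mapNatIso (Scheme.Modules.restrictFunctorIsoPullback c.q))
    (hS.map_of_exact (Scheme.Modules.restrictFunctor c.q))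

/-- The isomorphism of the preimage with the projective space. -/
def Bun.Chart.kappa : (X.π ⁻¹ᵁ V).toScheme ≅ CohB1.ProjSpace n Γ(T, V) :=
  IsOpenImmersion.isoOfRangeEq (X.π ⁻¹ᵁ V).ι c.q c.range.symm

theorem Bun.Chart.kappa_fac : c.kappa.hom ≫ c.q = (X.π ⁻¹ᵁ V).ι :=
  IsOpenImmersion.isoOfRangeEq_hom_fac _ _ _

/-- The two ways of restricting to a preimage. -/
def Bun.Chart.resIso (M : X.P.Modules) :
    (Scheme.Modules.pullback c.kappa.hom).obj (c.Q.obj M) ≅ M.restrict (X.π ⁻¹ᵁ V).ι :=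
  (Scheme.Modules.pullbackComp c.kappa.hom c.q).app _ ≪≫
    (Scheme.Modules.pullbackCongr c.kappa_fac).app _ ≪≫
      ((Scheme.Modules.restrictFunctorIsoPullback _).app _).symm

theorem Bun.Chart.subsingleton_iff (M : X.P.Modules) (hM : Coh.IsQCoh M) (i : ℕ) :
    Subsingleton (CohSite.HU (Coh.toAb M) i (X.π ⁻¹ᵁ V)) ↔
      Subsingleton (Coh.HH (CohB1.ProjSpace n Γ(T, V)) (c.Q.obj M) i) := by
  obtain ⟨a⟩ := CohQC.hu_restrict M (X.π ⁻¹ᵁ V) i
  constructor
  · intro h
    have h' : Subsingleton (Coh.HH _ (M.restrict (X.π ⁻¹ᵁ V).ι) i) := a.symm.toEquiv.subsingleton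
    have h'' := CohQC.hh_subsingleton_of_iso (c.resIso M).symm i h'
    have h3 := TwistOverVan.subsingleton_hh_pullback_iso c.kappa.inv _
      (QC.isQCoh_pullback c.kappa.hom (c.isQCoh hM)) i h''
    exact CohQC.hh_subsingleton_of_iso ((Scheme.Modules.pullbackComp c.kappa.inv c.kappa.hom).app _ ≪≫
      (Scheme.Modules.pullbackCongr c.kappa.inv_hom_id).app _ ≪≫ (Scheme.Modules.pullbackId _).app _) i h3
  · intro h
    have h' := TwistOverVan.subsingleton_hh_pullback_iso c.kappa.hom _ (c.isQCoh hM) i h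
    have h'' := CohQC.hh_subsingleton_of_iso (c.resIso M) i h'
    exact a.toEquiv.subsingleton

theorem Bun.Chart.nonempty_twF (d : ℤ) (F : X.P.Modules) :
    Nonempty (c.Q.obj (X.twF d F) ≅ CohB1.tensorMod (c.Q.obj F) (Ot Γ(T, V) n d)) := by
  obtain ⟨e⟩ := TMul.nonempty_pullTensorIso c.q (X.O d) F
  exact ⟨e.symm ≪≫ PicGrp.tensorModIso (c.tw d) (Iso.refl _) ≪≫ TMul.commIso _ _⟩

theorem isQCoh_twF (d : ℤ) {F : X.P.Modules} (hF : Coh.IsQCoh F) : Coh.IsQCoh (X.twF d F) :=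
  QC.isQCoh_of_iso (TMul.commIso F (X.O d)) (TMul.isQCoh_tensor (X.inv_O d) (hF := hF))

theorem isZero_iff (M : X.P.Modules) (hM : Coh.IsQCoh M) (i : ℕ) :
    IsZero ((Coh.RpushAb X.π i).obj (Coh.toAb M)) ↔
      ∀ (V : T.Opens) (c : X.Chart V), Subsingleton (Coh.HH (CohB1.ProjSpace n Γ(T, V)) (c.Q.obj M) i) := by
  constructor
  · intro hz V c
    refine (c.subsingleton_iff M hM i).1 ?_
    obtain ⟨b⟩ := W7Hull.hu_equiv_sections X.π M hM c.aff i
    haveI : Subsingleton ↑(((Coh.RpushAb X.π i).obj (Coh.toAb M)).obj.obj (op V)) :=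
      AddCommGrpCat.subsingleton_of_isZero ((Functor.map_isZero (sheafToPresheaf _ _) hz).obj (op V))
    exact b.toEquiv.subsingleton
  · intro h
    refine W7Hull.isZero_rpushAb_of_cover _ _ hM i fun y => ?_
    obtain ⟨V, hyV, -, ⟨c⟩⟩ := exists_chart X (U := ⊤) (y := y) trivial
    exact ⟨V, c.aff, hyV, (c.subsingleton_iff M hM i).2 (h V c)⟩

theorem isReg_iff {F : X.P.Modules} (hF : Coh.IsQCoh F) :
    X.IsReg F ↔ ∀ (V : T.Opens) (c : X.Chart V), Reg (c.Q.obj F) 0 := by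
  constructor
  · intro h V c q hq
    obtain ⟨e⟩ := c.nonempty_twF (-(q : ℤ)) F
    rw [zero_sub]
    exact CohQC.hh_subsingleton_of_iso e q ((isZero_iff _ (isQCoh_twF _ hF) q).1 (h q hq) V c)
  · intro h q hq
    refine (isZero_iff _ (isQCoh_twF _ hF) q).2 fun V c => ?_
    obtain ⟨e⟩ := c.nonempty_twF (-(q : ℤ)) F
    have := h V c q hq
    rw [zero_sub] at this
    exact CohQC.hh_subsingleton_of_iso e.symm q this

theorem Bun.Chart.reg_twF (d : ℤ) (F : X.P.Modules) : Reg (c.Q.obj (X.twF d F)) 0 ↔ Reg (c.Q.obj F) d := by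
  obtain ⟨e⟩ := c.nonempty_twF d F
  refine ⟨fun h => ?_, fun h => PnReg.reg_of_iso e.symm ?_⟩
  · simpa using PnReg.reg_of_twist (a := d) (PnReg.reg_of_iso e h)
  · simpa using PnReg.reg_twist h d

theorem isReg_of_iso {F G : X.P.Modules} (e : F ≅ G) (h : X.IsReg F) : X.IsReg G := fun i hi =>
  (h i hi).of_iso ((Coh.RpushAb X.π i).mapIso
    ((SheafOfModules.toSheaf _).mapIso (PicGrp.tensorModIso (Iso.refl _) e.symm)))

theorem isZero_twF (d : ℤ) {M : X.P.Modules} (hM : IsZero M) : IsZero (X.twF d M) :=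
  (PnReg.isZero_tensor hM _).of_iso (TMul.commIso _ _)

theorem isReg_of_isZero {Z : X.P.Modules} (hZ : IsZero Z) : X.IsReg Z := fun i _ =>
  (Coh.RpushAb X.π i).map_isZero ((SheafOfModules.toSheaf _).map_isZero (isZero_twF _ hZ))

theorem Bun.twF_zero (X : Bun n T) (M : X.P.Modules) : Nonempty (X.twF 0 M ≅ M) := by
  obtain ⟨f⟩ := X.O_zero
  exact ⟨PicGrp.tensorModIso f (Iso.refl M) ≪≫ TMul.leftUnitIso M⟩

theorem Bun.twF_twF (X : Bun n T) (M : X.P.Modules) (a b c : ℤ) (h : a + b = c) :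
    Nonempty (X.twF a (X.twF b M) ≅ X.twF c M) := by
  subst h
  obtain ⟨e⟩ := X.O_add a b
  exact ⟨(TMul.assocIso _ _ _).symm ≪≫ PicGrp.tensorModIso e (Iso.refl M)⟩

/-- Twisting on the right, as an isomorphism with `twF`. -/
def Bun.twComm (X : Bun n T) (d : ℤ) (M : X.P.Modules) : CohB1.tensorMod M (X.O d) ≅ X.twF d M :=
  TMul.commIso M (X.O d)

end Groth.Agent.PBReg
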