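import Groth.Agent.PBReg.Koszul
import Groth.Agent.Intersect.Push
import Groth.Agent.K0Coh.Basic
import Groth.Agent.CurveRR.TmapR
import Groth.Agent.QC.Pullback
import Groth.Agent.W7Hull.HomAdj

/-!
The Koszul relation for coherent modules on a projective bundle.
-/

set_option autoImplicit false
set_option linter.unusedSectionVars false
set_option linter.style.haveILetI false
set_option backward.isDefEq.respectTransparency false
set_option backward.isDefEq.respectTransparency.types false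
set_option maxHeartbeats 1000000

universe u

open CategoryTheory CategoryTheory.Limits AlgebraicGeometry TopologicalSpace Opposite
open Groth.Agent.SGA6Ext (extSh)
open Groth.Agent.QC (res res_res res_smul app_res)

noncomputable section

namespace Groth.Agent.PBReg

/-- A frame of the middle term extending a frame of the first. -/
theorem exists_frame_extend {Y : Scheme.{u}} {S : ShortComplex Y.Modules} (hS : S.ShortExact)
    (h₁ : FlatMod.IsFinLocFree S.X₁) (h₃ : FlatMod.IsFinLocFree S.X₃) (x : Y) :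
    ∃ (V : Y.Opens) (a c : ℕ) (e : Fin a → Γ(S.X₁, V)) (b : Fin (a + c) → Γ(S.X₂, V)), x ∈ V ∧ TMul.IsFrame e ∧
      TMul.IsFrame b ∧ ∀ i, b (Fin.castAdd c i) = S.f.app V (e i) := by
  have h₂ := VBTwo.isFinLocFree_middle hS h₁ h₃
  obtain ⟨U₁, a, e, hx₁, he⟩ := TMul.exists_isFrame h₁ x
  obtain ⟨U₃, c, g, hx₃, hg⟩ := TMul.exists_isFrame h₃ x
  obtain ⟨V, hV, hxV, hle⟩ := exists_isAffineOpen_mem_and_subset (X := Y) (x := x) (U := U₁ ⊓ U₃) ⟨hx₁, hx₃⟩
  have hle₁ : V ≤ U₁ := (show V ≤ U₁ ⊓ U₃ from hle).trans inf_le_left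
  have hle₃ : V ≤ U₃ := (show V ≤ U₁ ⊓ U₃ from hle).trans inf_le_right
  obtain ⟨s, hs⟩ := SGA6Ext.exists_section hS h₂ h₃ (V := V) ⟨hV, ⟨U₁, a, e, he, hle₁⟩, ⟨U₃, c, g, hg, hle₃⟩⟩
  have hbij : Function.Bijective ((SGA6Ext.secMap S.f V).coprod s) := by
    have hgf : ∀ m, SGA6Ext.secMap S.g V (SGA6Ext.secMap S.f V m) = 0 := fun m =>
      LinearMap.congr_fun (SGA6Ext.comp_zero hS V) m
    have hgs : ∀ y, SGA6Ext.secMap S.g V (s y) = y := fun y => LinearMap.congr_fun hs y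
    refine ⟨fun p q hpq => ?_, fun m => ?_⟩
    · simp only [LinearMap.coprod_apply] at hpq
      have h2 : p.2 = q.2 := by
        have := congrArg (SGA6Ext.secMap S.g V) hpq
        rwa [map_add, map_add, hgf, hgf, hgs, hgs, zero_add, zero_add] at this
      rw [h2] at hpq
      exact Prod.ext (SGA6Ext.injective_f hS V (add_right_cancel hpq)) h2
    · obtain ⟨t, ht⟩ := SGA6Ext.ker_le hS V
        (show m - s (SGA6Ext.secMap S.g V m) ∈ LinearMap.ker (SGA6Ext.secMap S.g V) by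
          rw [LinearMap.mem_ker, map_sub, hgs, sub_self])
      exact ⟨(t, SGA6Ext.secMap S.g V m), by rw [LinearMap.coprod_apply, ht, sub_add_cancel]⟩
  let B₁ : Module.Basis (Fin a) Γ(Y, V) (SGA6Ext.Sec S.X₁ V) := Module.Basis.ofEquivFun (he.equiv hle₁).symm
  let B₃ : Module.Basis (Fin c) Γ(Y, V) (SGA6Ext.Sec S.X₃ V) := Module.Basis.ofEquivFun (hg.equiv hle₃).symm
  let B : Module.Basis (Fin (a + c)) Γ(Y, V) (SGA6Ext.Sec S.X₂ V) :=
    ((B₁.prod B₃).map (LinearEquiv.ofBijective _ hbij)).reindex finSumFinEquiv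
  refine ⟨V, a, c, fun i => (B₁ i : Γ(S.X₁, V)), fun i => (B i : Γ(S.X₂, V)), hxV, ?_, ?_, fun i => ?_⟩
  · exact PBundle.isFrame_of_bijective (LocFree.isQCoh_of_isFinLocFree h₁) hV (by
      rw [show (fun z => ∑ i, z i • (B₁ i : Γ(S.X₁, V))) = B₁.equivFun.symm from funext fun z =>
        (Module.Basis.equivFun_symm_apply B₁ z).symm]
      exact B₁.equivFun.symm.bijective)
  · exact PBundle.isFrame_of_bijective (LocFree.isQCoh_of_isFinLocFree h₂) hV (by
      rw [show (fun z => ∑ i, z i • (B i : Γ(S.X₂, V))) = B.equivFun.symm from funext fun z =>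
        (Module.Basis.equivFun_symm_apply B z).symm]
      exact B.equivFun.symm.bijective)
  · show B (Fin.castAdd c i) = SGA6Ext.secMap S.f V (B₁ i)
    simp [B, finSumFinEquiv_symm_apply_castAdd, Module.Basis.prod_apply]

theorem tm_zero' {Y : Scheme.{u}} {M N : Y.Modules} {U : Y.Opens} (a : Γ(M, U)) : TMul.tm a (0 : Γ(N, U)) = 0 := by
  rw [← TMul.tt_tmul, TensorProduct.tmul_zero, map_zero]

/-- A short exact sequence of bundles stays exact after tensoring with anything. -/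
theorem shortExact_tmap_of_locFree {Y : Scheme.{u}} {S : ShortComplex Y.Modules} (hS : S.ShortExact)
    (h₁ : FlatMod.IsFinLocFree S.X₁) (h₃ : FlatMod.IsFinLocFree S.X₃) (G : Y.Modules) :
    (ShortComplex.mk (CohFinite.tmap S.f G) (CohFinite.tmap S.g G)
      (by rw [← CohFinite.tmap_comp, S.zero, CohFinite.tmap_zero])).ShortExact := by
  have hinj : ∀ U, Function.Injective ((CohFinite.tmap S.f G).app U) := fun U => by
    rw [injective_iff_map_eq_zero]
    intro t ht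
    refine Groth.Agent.QC.section_eq_of_locally fun x hx => ?_
    obtain ⟨V, a, c, e, b, hxV, he, hb, hbe⟩ := exists_frame_extend hS h₁ h₃ x
    have hW : V ⊓ U ≤ V := inf_le_left
    obtain ⟨m, hm⟩ := (he.tm_bijective (M := G) (V ⊓ U) hW).2 (res _ inf_le_right t)
    refine ⟨V ⊓ U, inf_le_right, ⟨hxV, hx⟩, ?_⟩
    have h0 : (CohFinite.tmap S.f G).app (V ⊓ U) (res _ inf_le_right t) = 0 := by rw [← app_res, ht, map_zero]
    rw [← hm, map_sum] at h0
    let m' : Fin (a + c) → Γ(G, V ⊓ U) := Fin.append m 0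
    have h2 : (∑ i, TMul.tm (res S.X₂ hW (b i)) (m' i)) = 0 := by
      rw [Fin.sum_univ_add]
      rw [show (∑ i : Fin c, TMul.tm (res S.X₂ hW (b (Fin.natAdd a i))) (m' (Fin.natAdd a i))) = 0 from
        Finset.sum_eq_zero fun i _ => by simp [m', tm_zero'], add_zero]
      refine (Finset.sum_congr rfl fun i _ => ?_).trans h0
      simp only [m', Fin.append_left, CohFinite.tmap_tm, hbe, app_res]
    have h3 : m' = 0 := (hb.tm_bijective (M := G) (V ⊓ U) hW).1 (h2.trans (by simp [tm_zero']))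
    have h4 : m = 0 := funext fun i => by simpa [m'] using congrFun h3 (Fin.castAdd c i)
    rw [map_zero, ← hm, h4]
    simp [tm_zero']
  haveI : Mono (CohFinite.tmap S.f G) := (Groth.Agent.QC.mono_iff_app_injective _).2 hinj
  let F : Y.Modules ⥤ Y.Modules := (DCoh.tensorBi (X := Y)).obj G
  haveI : PreservesColimitsOfSize.{u, u} F := ModSiteTensor.preservesColimits_tensorBi_obj Y.sheaf _
  have hnat : ∀ {A B : Y.Modules} (φ : A ⟶ B),
      (TMul.commIso G A).hom ≫ CohFinite.tmap φ G = F.map φ ≫ (TMul.commIso G B).hom := fun {A B} φ =>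
    TMul.hom_ext fun U g a => by
      show (CohFinite.tmap φ G).app U ((TMul.commHom G A).app U (TMul.tm g a)) =
        (TMul.commHom G B).app U ((((DCoh.tensorBi (X := Y)).obj G).map φ).app U (TMul.tm g a))
      rw [TMul.commHom_tm, CohFinite.tmap_tm, W7Hull.map_tm, TMul.commHom_tm]
  haveI := hS.epi_g
  haveI : Mono (F.map S.f) := by
    haveI : Mono (F.map S.f ≫ (TMul.commIso G S.X₂).hom) := by
      rw [← hnat S.f]
      infer_instance
    exact mono_of_mono (F.map S.f) (TMul.commIso G S.X₂).hom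
  have h : (S.map F).ShortExact := ShortComplex.ShortExact.mk' (ShortComplex.exact_of_g_is_cokernel _
    (CokernelCofork.mapIsColimit _ hS.gIsCokernel F)) (inferInstanceAs (Mono (F.map S.f)))
    (inferInstanceAs (Epi (F.map S.g)))
  refine ShortComplex.shortExact_of_iso ?_ h
  exact ShortComplex.isoMk (TMul.commIso G S.X₁) (TMul.commIso G S.X₂) (TMul.commIso G S.X₃) (hnat S.f) (hnat S.g)

variable {n : ℕ} {T : Scheme.{u}} (X : Bun n T) [IsNoetherian T] [IsNoetherian X.P]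

theorem isCoh_O (d : ℤ) : Coh.IsCoh (X.O d) :=
  K0Coh.isCoh_of_isFinLocFree (ResDesc.isFinLocFree_of_isInvertible (X.inv_O d))

theorem isCoh_twF (d : ℤ) {F : X.P.Modules} (hF : Coh.IsCoh F) : Coh.IsCoh (X.twF d F) :=
  CurveRR.isCoh_tensor' (isCoh_O X d) hF

theorem isCoh_term (j : ℕ) {F : X.P.Modules} (hF : Coh.IsCoh F) : Coh.IsCoh (X.term j F) :=
  CurveRR.isCoh_tensor' hF (K0Coh.isCoh_of_isFinLocFree (isFinLocFree_coefTw X j))

theorem isCoh_img (j : ℕ) {F : X.P.Modules} (hF : Coh.IsCoh F) : Coh.IsCoh (X.img j F) :=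
  CurveRR.isCoh_tensor' (K0Coh.isCoh_of_isFinLocFree ((exists_kos X).choose_spec.1 _))
    (CurveRR.isCoh_tensor' (K0Coh.isCoh_of_isFinLocFree
      (DerPerf.isFinLocFree_pullback X.π (ResDesc.isFinLocFree_of_isInvertible X.Dinv_spec.1))) (isCoh_twF X _ hF))

theorem img_seqC {F : X.P.Modules} {j : ℕ} (hj : j < n) :
    ∃ S : ShortComplex X.P.Modules, S.ShortExact ∧ Nonempty (S.X₁ ≅ X.img j F) ∧
      Nonempty (S.X₂ ≅ X.term j F) ∧ Nonempty (S.X₃ ≅ X.img (j + 1) F) := by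
  obtain ⟨i, hi⟩ : ∃ i, i + 1 = n - j := ⟨n - j - 1, by omega⟩
  obtain ⟨S, hS, ⟨a⟩, ⟨b⟩, ⟨c⟩⟩ := (exists_kos X).choose_spec.2.2.2 i
  let D := (Scheme.Modules.pullback X.π).obj X.Dinv
  let G := CohB1.tensorMod D (X.twF ((j + 1 : ℕ) : ℤ) F)
  have hK := (exists_kos X).choose_spec.1
  have h₁ : FlatMod.IsFinLocFree S.X₁ := DQCoh.isFinLocFree_of_iso' a.symm (hK _)
  have h₃ : FlatMod.IsFinLocFree S.X₃ :=
    DQCoh.isFinLocFree_of_iso' c.symm (isFLF_tm (hK _) (ResDesc.isFinLocFree_of_isInvertible X.inv_O1))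
  obtain ⟨p⟩ := SGA6Ext.exists_pullExt X.π (i + 1) (SGA6Ext.finLocFree_of_rank X.hE)
  obtain ⟨k⟩ := TMul.nonempty_pullTensorIso X.π (extSh X.E (i + 1)) X.Dinv
  obtain ⟨t⟩ := nonempty_term X j F
  obtain ⟨o⟩ := X.O_succ ((j + 1 : ℕ) : ℤ)
  refine ⟨_, shortExact_tmap_of_locFree hS h₁ h₃ G, ⟨?_⟩, ⟨?_⟩, ⟨?_⟩⟩
  · exact PicGrp.tensorModIso (a ≪≫ eqToIso (congrArg X.kos hi)) (Iso.refl G)
  · exact PicGrp.tensorModIso (b ≪≫ p.symm) (Iso.refl G) ≪≫ (TMul.assocIso _ D _).symm ≪≫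
      PicGrp.tensorModIso (k ≪≫ (Scheme.Modules.pullback X.π).mapIso
        (PicGrp.tensorModIso (eqToIso (by rw [hi])) (Iso.refl _))) (Iso.refl _) ≪≫ t.symm
  · let M := X.O ((j + 1 : ℕ) : ℤ)
    exact PicGrp.tensorModIso c (Iso.refl G) ≪≫ TMul.assocIso (X.kos i) X.O1 G ≪≫
      PicGrp.tensorModIso (eqToIso (congrArg X.kos (by omega : i = n - (j + 1))))
        ((TMul.assocIso X.O1 D _).symm ≪≫ PicGrp.tensorModIso (TMul.commIso X.O1 D) (Iso.refl _) ≪≫
          TMul.assocIso D X.O1 _ ≪≫ PicGrp.tensorModIso (Iso.refl D)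
            ((TMul.assocIso X.O1 M F).symm ≪≫ PicGrp.tensorModIso
              (TMul.commIso X.O1 M ≪≫ o ≪≫ eqToIso (congrArg X.O (by push_cast; ring))) (Iso.refl F)))

/-- The relation, for a class of coherent modules closed enough. -/
theorem relC {Pp : ObjectProperty X.P.Modules}
    (hiso : ∀ {M N : X.P.Modules}, (M ≅ N) → Pp M → Pp N)
    (h3 : ∀ {S : ShortComplex X.P.Modules}, S.ShortExact → Pp S.X₁ → Pp S.X₂ → Coh.IsCoh S.X₃ → Pp S.X₃)
    {A : Type*} [AddCommGroup A] (f : X.P.Modules → A)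
    (hadd : ∀ {S : ShortComplex X.P.Modules}, S.ShortExact → Pp S.X₁ → Pp S.X₂ → Pp S.X₃ → f S.X₂ = f S.X₁ + f S.X₃)
    (hfiso : ∀ {M N : X.P.Modules}, (M ≅ N) → Pp M → f M = f N)
    {F : X.P.Modules} (hF : Coh.IsCoh F) (hPF : Pp F) (hPT : ∀ j, j < n → Pp (X.term j F)) :
    f F = ∑ j ∈ Finset.range (n + 1), (-1 : ℤ) ^ j • f (X.term j F) := by
  have key : ∀ j, j ≤ n → Pp (X.img j F) ∧
      f F = (∑ i ∈ Finset.range j, (-1 : ℤ) ^ i • f (X.term i F)) + (-1 : ℤ) ^ j • f (X.img j F) := by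
    intro j
    induction j with
    | zero =>
      intro _
      obtain ⟨e⟩ := nonempty_img_zero X F
      refine ⟨hiso e.symm hPF, ?_⟩
      rw [Finset.sum_range_zero, pow_zero, one_smul, zero_add]
      exact hfiso e.symm hPF
    | succ j ih =>
      intro hj
      obtain ⟨hP, hs⟩ := ih (by omega)
      obtain ⟨S, hS, ⟨a⟩, ⟨b⟩, ⟨c⟩⟩ := img_seqC X (F := F) (j := j) (by omega)
      have p₁ : Pp S.X₁ := hiso a.symm hP
      have p₂ : Pp S.X₂ := hiso b.symm (hPT j (by omega))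
      have p₃ : Pp S.X₃ := h3 hS p₁ p₂ (K0Coh.isCoh_of_iso c.symm (isCoh_img X _ hF))
      refine ⟨hiso c p₃, ?_⟩
      have h := hadd hS p₁ p₂ p₃
      rw [hfiso a p₁, hfiso b p₂, hfiso c p₃] at h
      rw [hs, Finset.sum_range_succ, h, pow_succ, mul_neg_one, neg_smul, smul_add]
      abel
  obtain ⟨hP, hs⟩ := key n le_rfl
  obtain ⟨e⟩ := nonempty_img_last X F
  rw [hs, Finset.sum_range_succ, hfiso e hP]

end Groth.Agent.PBReg
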