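import Groth.Agent.PBReg.KPush
import Groth.Agent.PnReg.Sections
import Groth.Agent.ProjMor.ProjSpaceBase
import Groth.Agent.SGA6Ext.Pull

/-!
Push-forward of the standard classes.
-/

set_option autoImplicit false
set_option linter.unusedSectionVars false
set_option linter.style.haveILetI false
set_option backward.isDefEq.respectTransparency false
set_option backward.isDefEq.respectTransparency.types false
set_option maxHeartbeats 1000000

universe u

open CategoryTheory CategoryTheory.Limits AlgebraicGeometry TopologicalSpace Opposite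

noncomputable section

namespace Groth.Agent.PBReg

section Ring

variable {R : Type u} [CommRing R] {n : ℕ}

/-- Negative twists of inverse images have no sections. -/
theorem hh_pull_zero (N : (Spec (CommRingCat.of R)).Modules) (hN : Coh.IsQCoh N) (d : ℤ) (hd : -(n : ℤ) ≤ d)
    (hd0 : d < 0) : Subsingleton (Coh.HH (CohB1.ProjSpace n R)
      (CohB1.tensorMod ((Scheme.Modules.pullback (CohB1.ProjSpace.toSpec n R)).obj N) (PnReg.Ot R n d)) 0) := by
  let f := CohB1.ProjSpace.toSpec n R
  haveI : Flat f := (PerfGen.flat_lfp_toSpec n R).1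
  haveI : IsProper f := ProjMor.isProper_toSpec n R
  haveI : CompactSpace (CohB1.ProjSpace n R) := QuasiCompact.compactSpace_of_compactSpace f
  haveI : QuasiSeparatedSpace (CohB1.ProjSpace n R) := quasiSeparatedSpace_of_quasiSeparated f
  obtain ⟨ι, π, hπ⟩ := PnReg.exists_free_epi hN
  have hK : Coh.IsQCoh (kernel π) := QC.isQCoh_kernel
    (inferInstance : (SheafOfModules.free.{u} (R := (Spec (CommRingCat.of R)).ringCatSheaf) ι).IsQuasicoherent) hN π
  let P := Scheme.Modules.pullback f
  have hS : (ShortComplex.mk (kernel.ι π) π (kernel.condition π)).ShortExact :=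
    { exact := ShortComplex.exact_kernel π }
  haveI : Mono (P.map (kernel.ι π)) := FlatFunLib.mono_pullback_of_flat f (kernel.ι π)
  have hS' : ((ShortComplex.mk (kernel.ι π) π (kernel.condition π)).map P).ShortExact :=
    ShortComplex.ShortExact.mk' (ShortComplex.exact_of_g_is_cokernel _
      (CokernelCofork.mapIsColimit _ hS.gIsCokernel P)) (inferInstanceAs (Mono (P.map (kernel.ι π))))
      (inferInstanceAs (Epi (P.map π)))
  refine CohFinite.subsingleton_of_shortExact
    (CohFinite.shortExact_tmap (CohFinite.isInvertible_twist n R d) hS') 0 ?_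
    (PnReg.hh_pull (kernel π) hK d hd (n + 1) 1 (by omega) le_rfl)
  let G : (Spec (CommRingCat.of R)).Modules ⥤ (CohB1.ProjSpace n R).Modules :=
    P ⋙ (DCoh.tensorBi (X := CohB1.ProjSpace n R)).flip.obj (PnReg.Ot R n d)
  haveI : PreservesColimitsOfSize.{u, u} ((DCoh.tensorBi (X := CohB1.ProjSpace n R)).flip.obj (PnReg.Ot R n d)) :=
    ModSiteTensor.preservesColimits_tensorBi_flip_obj (CohB1.ProjSpace n R).sheaf _
  haveI : PreservesColimitsOfSize.{u, u} P :=
    (Scheme.Modules.pullbackPushforwardAdjunction f).leftAdjoint_preservesColimits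
  refine CohQC.hh_subsingleton_of_iso (PreservesCoproduct.iso G _).symm 0 ?_
  refine PnReg.hh_sigma _ 0 fun _ => ?_
  exact CohQC.hh_subsingleton_of_iso (PicGrp.tensorModIso (DerPerf.pullUnitIso f).symm (Iso.refl _)) 0
    (CohQC.hh_subsingleton_of_iso (TMul.leftUnitIso (PnReg.Ot R n d)).symm 0
      (ProjCech.twist_vanish n d 0 (fun h => by omega) (fun h => by omega)))

end Ring

variable {n : ℕ} {T : Scheme.{u}} {X : Bun n T}

/-- Chartable opens. -/
theorem isBase_chart (X : Bun n T) : SGA6Ext.IsBase (X := T) fun V => Nonempty (X.Chart V) := fun U x hx => by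
  obtain ⟨V, hxV, hVU, hc⟩ := exists_chart X (U := U) (y := x) hx
  exact ⟨V, hc, hxV, hVU⟩

/-- Direct image of the structure sheaf. -/
theorem nonempty_push_unit (X : Bun n T) :
    Nonempty ((Scheme.Modules.pushforward X.π).obj (Coh.structureModule X.P) ≅ Coh.structureModule T) := by
  let f := X.π
  haveI : (SheafOfModules.pushforward.{u} f.toRingCatSheafHom).IsRightAdjoint :=
    inferInstanceAs (Scheme.Modules.pushforward f).IsRightAdjoint
  let adj := Scheme.Modules.pullbackPushforwardAdjunction f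
  let φ : Coh.structureModule T ⟶ (Scheme.Modules.pushforward f).obj (Coh.structureModule X.P) :=
    SheafOfModules.unitToPushforwardObjUnit f.toRingCatSheafHom
  have hmate : adj.unit.app (Coh.structureModule T) ≫
      (Scheme.Modules.pushforward f).map (DerPerf.pullUnitIso f).hom = φ :=
    (adj.homEquiv_unit _ _ (DerPerf.pullUnitIso f).hom).symm.trans
      (((SheafOfModules.pullbackPushforwardAdjunction f.toRingCatSheafHom).homEquiv _ _).apply_symm_apply _)
  have hinj : ∀ V, Nonempty (X.Chart V) → Function.Injective (φ.app V) := fun V ⟨c⟩ => by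
    obtain ⟨r, hr⟩ := ProjMor.exists_lift n Γ(T, V) (𝟙 _)
    let s := r ≫ c.q
    have hs : s ≫ f = c.aff.fromSpec := by rw [Category.assoc, c.fac, ← Category.assoc, hr, Category.id_comp]
    intro a b hab
    have h1 : f.app V a = f.app V b := hab
    have h2' : ∀ g : Spec Γ(T, V) ⟶ T, s ≫ f = g → g.app V a = g.app V b := by
      rintro g rfl
      exact congrArg (s.app (f ⁻¹ᵁ V)) h1
    have h2 := h2' _ hs
    haveI := c.aff.fromSpec.isIso_app V c.aff.opensRange_fromSpec.ge
    exact (ConcreteCategory.bijective_of_isIso (c.aff.fromSpec.app V)).1 h2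
  have hsurj : ∀ V, Nonempty (X.Chart V) → Function.Surjective (φ.app V) := fun V ⟨c⟩ => by
    rw [← hmate]
    exact (ConcreteCategory.bijective_of_isIso ((DerPerf.pullUnitIso f).hom.app (f ⁻¹ᵁ V))).2.comp
      (surjective_unit (LocFree.isQCoh_of_isFinLocFree (SGA6Ext.finLocFree_unit T)) c)
  haveI := SGA6Ext.mono_of_base (isBase_chart X) φ hinj
  haveI := SGA6Ext.epi_of_base (isBase_chart X) φ hsurj
  haveI := isIso_of_mono_of_epi φ
  exact ⟨(asIso φ).symm⟩

theorem isReg_unit : X.IsReg (Coh.structureModule X.P) :=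
  isReg_of_iso (DerPerf.pullUnitIso X.π) (isReg_pull (LocFree.isQCoh_of_isFinLocFree (SGA6Ext.finLocFree_unit T)))

theorem isFLF_pull {M : T.Modules} (hM : FlatMod.IsFinLocFree M) :
    FlatMod.IsFinLocFree ((Scheme.Modules.pullback X.π).obj M) :=
  DerPerf.isFinLocFree_pullback X.π hM

variable [CompactSpace T]

/-- The classes `O(d) ⊗ π^* x`. -/
theorem acy_twF_pull {M : T.Modules} (hM : FlatMod.IsFinLocFree M) (d : ℤ) (hd : -(n : ℤ) ≤ d) :
    X.Acy (X.twF d ((Scheme.Modules.pullback X.π).obj M)) := by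
  have hq : Coh.IsQCoh M := LocFree.isQCoh_of_isFinLocFree hM
  refine ⟨isFinLocFree_twF d (isFLF_pull hM), fun k => ?_⟩
  obtain ⟨e⟩ := X.twF_twF ((Scheme.Modules.pullback X.π).obj M) (k : ℤ) d ((k : ℤ) + d) rfl
  refine acyclic_of_iso e.symm fun i hi =>
    (isZero_iff _ (isQCoh_twF _ (QC.isQCoh_pullback _ hq)) i).2 fun V c => ?_
  obtain ⟨e'⟩ := c.nonempty_twF ((k : ℤ) + d) ((Scheme.Modules.pullback X.π).obj M)
  refine CohQC.hh_subsingleton_of_iso (e' ≪≫ PicGrp.tensorModIso (c.pullIso M) (Iso.refl _)).symm i ?_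
  exact PnReg.hh_pull _ (QC.isQCoh_pullback c.aff.fromSpec hq) ((k : ℤ) + d) (by omega) (n + 1) i (by omega) hi

theorem isZero_push_twF_pull {M : T.Modules} (hM : FlatMod.IsFinLocFree M) (d : ℤ) (hd : -(n : ℤ) ≤ d) (hd0 : d < 0) :
    IsZero ((Scheme.Modules.pushforward X.π).obj (X.twF d ((Scheme.Modules.pullback X.π).obj M))) := by
  have hq : Coh.IsQCoh M := LocFree.isQCoh_of_isFinLocFree hM
  let F := X.twF d ((Scheme.Modules.pullback X.π).obj M)
  have hF : Coh.IsQCoh F := isQCoh_twF _ (QC.isQCoh_pullback _ hq)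
  choose V hyV _ hc using fun y => exists_chart X (U := ⊤) (y := y) trivial
  refine CohFinite.isZero_of_affine_cover _ (isQCoh_push hF) V (fun y => (hc y).some.aff)
    (fun y => ⟨y, hyV y⟩) fun y s => ?_
  let c := (hc y).some
  obtain ⟨e'⟩ := c.nonempty_twF d ((Scheme.Modules.pullback X.π).obj M)
  have h0 : Subsingleton (CohSite.HU (Coh.toAb F) 0 (X.π ⁻¹ᵁ V y)) := (c.subsingleton_iff F hF 0).2
    (CohQC.hh_subsingleton_of_iso (e' ≪≫ PicGrp.tensorModIso (c.pullIso M) (Iso.refl _)).symm 0
      (hh_pull_zero _ (QC.isQCoh_pullback c.aff.fromSpec hq) d hd hd0))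
  haveI : Subsingleton Γ(F, X.π ⁻¹ᵁ V y) :=
    @Equiv.subsingleton _ _ (SiteCoh.hu0 (Coh.toAb F) (X.π ⁻¹ᵁ V y)).toEquiv.symm h0
  exact Subsingleton.elim (α := Γ(F, X.π ⁻¹ᵁ V y)) s 0

/-- `π_* π^* = 1`. -/
theorem pushK_pullK (x : SGA6.Kvb T) : X.pushK (SGA6Ext.pullK X.π x) = x := by
  have e : X.pushK.comp (SGA6Ext.pullK X.π) = AddMonoidHom.id _ := SGA6Ext.hom_ext_cls fun M hM => by
    have hA : X.Acy ((Scheme.Modules.pullback X.π).obj M) := by
      obtain ⟨z⟩ := X.twF_zero ((Scheme.Modules.pullback X.π).obj M)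
      exact acy_iso z (acy_twF_pull hM 0 (by omega))
    rw [AddMonoidHom.comp_apply, SGA6Ext.pullK_cls _ hM, pushK_cls hA]
    obtain ⟨p⟩ := nonempty_push_tensor (X := X) (Coh.structureModule X.P) hM
    obtain ⟨u⟩ := nonempty_push_unit X
    refine SGA6Ext.cls_iso ?_ (isFinLocFree_push hA.1 (acy_acyclic hA))
    exact (Scheme.Modules.pushforward X.π).mapIso ((TMul.leftUnitIso _).symm ≪≫ TMul.commIso _ _) ≪≫ p ≪≫
      PicGrp.tensorModIso (Iso.refl M) u ≪≫ TMul.commIso _ _ ≪≫ TMul.leftUnitIso M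
  exact DFunLike.congr_fun e x

end Groth.Agent.PBReg
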