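import Groth.Agent.PBReg.CohPush
import Groth.Agent.PBReg.KGen

/-!
Coherent modules on a projective bundle: the twists form a basis.
-/

set_option autoImplicit false
set_option linter.unusedSectionVars false
set_option linter.style.haveILetI false
set_option backward.isDefEq.respectTransparency false
set_option backward.isDefEq.respectTransparency.types false
set_option maxHeartbeats 1000000

universe u

open CategoryTheory CategoryTheory.Limits AlgebraicGeometry TopologicalSpace Opposite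
open Groth.Agent.PnReg (liftSub liftSub_cl sub_induction)

noncomputable section

namespace Groth.Agent.PBReg

variable {n : ℕ} {T : Scheme.{u}} (X : Bun n T)

theorem injective_unit (M : T.Modules) {V : T.Opens} (c : X.Chart V) :
    Function.Injective (((Scheme.Modules.pullbackPushforwardAdjunction X.π).unit.app M).app V) := by
  obtain ⟨r, hr⟩ := ProjMor.exists_lift n Γ(T, V) (𝟙 _)
  let s := r ≫ c.q
  have hs : s ≫ X.π = c.aff.fromSpec := by rw [Category.assoc, c.fac, ← Category.assoc, hr, Category.id_comp]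
  have h : Function.Injective (((Scheme.Modules.pullbackPushforwardAdjunction (s ≫ X.π)).unit.app M).app V) := by
    rw [hs]
    exact (PnReg.bijective_unit_open c.aff.fromSpec M c.aff.opensRange_fromSpec.ge).1
  rw [← PnReg.unit_comp_eq s X.π M] at h
  intro a b hab
  apply h
  show (((Scheme.Modules.pullbackComp s X.π).hom.app M).app (s ⁻¹ᵁ X.π ⁻¹ᵁ V))
    ((((Scheme.Modules.pullbackPushforwardAdjunction s).unit.app ((Scheme.Modules.pullback X.π).obj M)).app (X.π ⁻¹ᵁ V))
      (((Scheme.Modules.pullbackPushforwardAdjunction X.π).unit.app M).app V a)) = _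
  rw [hab]
  rfl

/-- `π_* π^* M = M` for quasi-coherent `M`. -/
theorem nonempty_push_pull {M : T.Modules} (hM : Coh.IsQCoh M) :
    Nonempty ((Scheme.Modules.pushforward X.π).obj ((Scheme.Modules.pullback X.π).obj M) ≅ M) := by
  let φ : M ⟶ (Scheme.Modules.pushforward X.π).obj ((Scheme.Modules.pullback X.π).obj M) :=
    (Scheme.Modules.pullbackPushforwardAdjunction X.π).unit.app M
  haveI := SGA6Ext.mono_of_base (isBase_chart X) φ fun V ⟨c⟩ => injective_unit X M c
  haveI := SGA6Ext.epi_of_base (isBase_chart X) φ fun V ⟨c⟩ => surjective_unit hM c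
  haveI := isIso_of_mono_of_epi φ
  exact ⟨(asIso φ).symm⟩

theorem shortExact_pull {S : ShortComplex T.Modules} (hS : S.ShortExact) :
    (S.map (Scheme.Modules.pullback X.π)).ShortExact := by
  haveI := flat X
  let P := Scheme.Modules.pullback X.π
  haveI := hS.mono_f
  haveI := hS.epi_g
  haveI : Mono (P.map S.f) := FlatFunLib.mono_pullback_of_flat X.π S.f
  haveI : PreservesColimitsOfSize.{u, u} P :=
    (Scheme.Modules.pullbackPushforwardAdjunction X.π).leftAdjoint_preservesColimits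
  exact ShortComplex.ShortExact.mk' (ShortComplex.exact_of_g_is_cokernel _
    (CokernelCofork.mapIsColimit _ hS.gIsCokernel P)) (inferInstanceAs (Mono (P.map S.f)))
    (inferInstanceAs (Epi (P.map S.g)))

variable [IsNoetherian T] [IsNoetherian X.P]

theorem isCoh_pull {M : T.Modules} (hM : Coh.IsCoh M) : Coh.IsCoh ((Scheme.Modules.pullback X.π).obj M) :=
  QC.isCoh_pullback X.π hM

/-- Twisting, on classes of coherent modules. -/
def Bun.twC (d : ℤ) : SGA6.Kcoh X.P →+ SGA6.Kcoh X.P :=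
  liftSub (fun F => clC (X.twF d F.1)) fun S h₁ h₂ h₃ hS => by
    have g₁ := K0Coh.isCoh_of_iso (X.twComm d S.X₁).symm (isCoh_twF X d h₁)
    have g₂ := K0Coh.isCoh_of_iso (X.twComm d S.X₂).symm (isCoh_twF X d h₂)
    have g₃ := K0Coh.isCoh_of_iso (X.twComm d S.X₃).symm (isCoh_twF X d h₃)
    rw [← clC_iso (X.twComm d S.X₁) g₁, ← clC_iso (X.twComm d S.X₂) g₂, ← clC_iso (X.twComm d S.X₃) g₃]
    exact K0Res.clSub_add (fun M : X.P.Modules => Coh.IsCoh M)
      (PnReg.shortExact_tensor (ResDesc.isFinLocFree_of_isInvertible (X.inv_O d)) hS) g₁ g₂ g₃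

/-- Inverse image, on classes of coherent modules. -/
def Bun.pullC : SGA6.Kcoh T →+ SGA6.Kcoh X.P :=
  liftSub (fun M => clC ((Scheme.Modules.pullback X.π).obj M.1)) fun S h₁ h₂ h₃ hS =>
    K0Res.clSub_add (fun M : X.P.Modules => Coh.IsCoh M) (shortExact_pull X hS) (isCoh_pull X h₁) (isCoh_pull X h₂)
      (isCoh_pull X h₃)

/-- The classes `O(d) ⊗ π^* x`. -/
def Bun.genC (d : ℤ) : SGA6.Kcoh T →+ SGA6.Kcoh X.P := (X.twC d).comp X.pullC

variable {X}

theorem twC_cls (d : ℤ) {F : X.P.Modules} (hF : Coh.IsCoh F) : X.twC d (clC F) = clC (X.twF d F) :=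
  liftSub_cl _ _ hF

theorem pullC_cls {M : T.Modules} (hM : Coh.IsCoh M) : X.pullC (clC M) = clC ((Scheme.Modules.pullback X.π).obj M) :=
  liftSub_cl _ _ hM

theorem genC_cls (d : ℤ) {M : T.Modules} (hM : Coh.IsCoh M) :
    X.genC d (clC M) = clC (X.twF d ((Scheme.Modules.pullback X.π).obj M)) := by
  rw [Bun.genC, AddMonoidHom.comp_apply, pullC_cls hM, twC_cls d (isCoh_pull X hM)]

theorem hom_ext_clC {Y : Scheme.{u}} {A : Type*} [AddCommGroup A] {f g : SGA6.Kcoh Y →+ A}
    (h : ∀ M, Coh.IsCoh M → f (clC M) = g (clC M)) : f = g :=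
  AddMonoidHom.ext fun x => sub_induction (P := fun M : Y.Modules => Coh.IsCoh M) (Q := fun x => f x = g x)
    (by simp) (fun x hx => by simp [hx]) (fun x y hx hy => by simp [hx, hy]) h x

theorem twC_twC (a b c : ℤ) (h : a + b = c) (x : SGA6.Kcoh X.P) : X.twC a (X.twC b x) = X.twC c x := by
  have e : (X.twC a).comp (X.twC b) = X.twC c := hom_ext_clC fun F hF => by
    rw [AddMonoidHom.comp_apply, twC_cls b hF, twC_cls a (isCoh_twF X b hF), twC_cls c hF]
    obtain ⟨i⟩ := X.twF_twF F a b c h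
    exact clC_iso i (isCoh_twF X a (isCoh_twF X b hF))
  exact DFunLike.congr_fun e x

theorem twC_zero (x : SGA6.Kcoh X.P) : X.twC 0 x = x := by
  have e : X.twC 0 = AddMonoidHom.id _ := hom_ext_clC fun F hF => by
    obtain ⟨i⟩ := X.twF_zero F
    rw [twC_cls 0 hF]
    exact clC_iso i (isCoh_twF X 0 hF)
  exact DFunLike.congr_fun e x

theorem twC_genC (a b c : ℤ) (h : a + b = c) (x : SGA6.Kcoh T) : X.twC a (X.genC b x) = X.genC c x :=
  twC_twC a b c h _

theorem genC_zero (x : SGA6.Kcoh T) : X.genC 0 x = X.pullC x := by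
  rw [Bun.genC, AddMonoidHom.comp_apply]
  exact twC_zero (X := X) (X.pullC x)

theorem acyC_twF_pull {M : T.Modules} (hM : Coh.IsCoh M) (d : ℤ) (hd : -(n : ℤ) ≤ d) :
    X.AcyC (X.twF d ((Scheme.Modules.pullback X.π).obj M)) := by
  refine ⟨isCoh_twF X d (isCoh_pull X hM), fun k => ?_⟩
  obtain ⟨e⟩ := X.twF_twF ((Scheme.Modules.pullback X.π).obj M) (k : ℤ) d ((k : ℤ) + d) rfl
  refine acyclic_of_iso e.symm fun i hi =>
    (isZero_iff _ (isQCoh_twF _ (QC.isQCoh_pullback _ hM.1)) i).2 fun V c => ?_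
  obtain ⟨e'⟩ := c.nonempty_twF ((k : ℤ) + d) ((Scheme.Modules.pullback X.π).obj M)
  refine CohQC.hh_subsingleton_of_iso (e' ≪≫ PicGrp.tensorModIso (c.pullIso M) (Iso.refl _)).symm i ?_
  exact PnReg.hh_pull _ (QC.isQCoh_pullback c.aff.fromSpec hM.1) ((k : ℤ) + d) (by omega) (n + 1) i (by omega) hi

theorem isZero_push_twF_pullC {M : T.Modules} (hM : Coh.IsCoh M) (d : ℤ) (hd : -(n : ℤ) ≤ d) (hd0 : d < 0) :
    IsZero ((Scheme.Modules.pushforward X.π).obj (X.twF d ((Scheme.Modules.pullback X.π).obj M))) := by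
  have hq : Coh.IsQCoh M := hM.1
  let F := X.twF d ((Scheme.Modules.pullback X.π).obj M)
  have hF : Coh.IsQCoh F := isQCoh_twF _ (QC.isQCoh_pullback _ hq)
  choose V hyV _ hc using fun y => exists_chart X (U := ⊤) (y := y) trivial
  refine CohFinite.isZero_of_affine_cover _ (isQCoh_push hF) V (fun y => (hc y).some.aff)
    (fun y => ⟨y, hyV y⟩) fun y s => ?_
  let c := (hc y).some
  obtain ⟨e'⟩ := c.nonempty_twF d ((Scheme.Modules.pullback X.π).obj M)
  have h0 : Subsingleton (CohSite.HU (Coh.toAb F) 0 (X.π ⁻¹ᵁ V y)) := (c.subsingleton_iff F hF 0).2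
    (CohQC.hh_subsingleton_of_iso (e' ≪≫ PicGrp.tensorModIso (c.pullIso M) (Iso.refl _)).symm 0
      (hh_pull_zero _ (QC.isQCoh_pullback c.aff.fromSpec hq) d hd hd0))
  haveI : Subsingleton Γ(F, X.π ⁻¹ᵁ V y) :=
    @Equiv.subsingleton _ _ (SiteCoh.hu0 (Coh.toAb F) (X.π ⁻¹ᵁ V y)).toEquiv.symm h0
  exact Subsingleton.elim (α := Γ(F, X.π ⁻¹ᵁ V y)) s 0

theorem pushKC_genC_zero (x : SGA6.Kcoh T) : X.pushKC (X.genC 0 x) = x := by
  have e : X.pushKC.comp (X.genC 0) = AddMonoidHom.id _ := hom_ext_clC fun M hM => by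
    obtain ⟨z⟩ := X.twF_zero ((Scheme.Modules.pullback X.π).obj M)
    have hA := acyC_twF_pull (X := X) hM 0 (by omega)
    obtain ⟨p⟩ := nonempty_push_pull X hM.1
    rw [AddMonoidHom.comp_apply, genC_cls 0 hM, pushK_clsC hA]
    exact clC_iso ((Scheme.Modules.pushforward X.π).mapIso z ≪≫ p) (isCoh_pushC X hA.1)
  exact DFunLike.congr_fun e x

theorem pushKC_genC_neg {i : ℕ} (hi : 1 ≤ i) (hin : i ≤ n) (x : SGA6.Kcoh T) : X.pushKC (X.genC (-(i : ℤ)) x) = 0 := by
  have e : X.pushKC.comp (X.genC (-(i : ℤ))) = 0 := hom_ext_clC fun M hM => by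
    have hA := acyC_twF_pull (X := X) hM (-(i : ℤ)) (by omega)
    rw [AddMonoidHom.comp_apply, genC_cls _ hM, pushK_clsC hA]
    exact clC_zero (isZero_push_twF_pullC hM (-(i : ℤ)) (by omega) (by omega))
  exact DFunLike.congr_fun e x

theorem isCoh_iterK {F : X.P.Modules} (hF : Coh.IsCoh F) : ∀ i, Coh.IsCoh (X.iterK F i)
  | 0 => hF
  | i + 1 => isCoh_twF X 1 (QC.isCoh_kernel (isCoh_pull X (isCoh_pushC X (isCoh_iterK hF i))) (isCoh_iterK hF i).1 _)

theorem cls_eq_sumC {F : X.P.Modules} (hF : Coh.IsCoh F) (hreg : X.IsReg F) :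
    clC F = ∑ i : Fin (n + 1), X.genC (-((i : ℕ) : ℤ))
      ((-1 : ℤ) ^ (i : ℕ) • clC ((Scheme.Modules.pushforward X.π).obj (X.iterK F i))) := by
  let K : ℕ → SGA6.Kcoh X.P := fun i => X.twC (-(i : ℤ)) (clC (X.iterK F i))
  let P : ℕ → SGA6.Kcoh T := fun i => clC ((Scheme.Modules.pushforward X.π).obj (X.iterK F i))
  have hstep : ∀ i : ℕ, X.genC (-(i : ℤ)) (P i) = K i + K (i + 1) := by
    intro i
    obtain ⟨hq, hr⟩ := iterK_spec hF.1 hreg i
    have hK := isCoh_iterK hF i
    have hT := isCoh_pushC X hK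
    have hp := isCoh_pull X hT
    have hker : Coh.IsCoh (X.Ker (X.iterK F i)) := QC.isCoh_kernel hp hK.1 _
    have h := K0Res.clSub_add (fun M : X.P.Modules => Coh.IsCoh M) (shortExact_ker hq hr) hker hp hK
    have h' : X.pullC (P i) = clC (X.Ker (X.iterK F i)) + clC (X.iterK F i) :=
      (pullC_cls hT).trans h
    have hnext : K (i + 1) = X.twC (-(i : ℤ)) (clC (X.Ker (X.iterK F i))) := by
      show X.twC (-((i + 1 : ℕ) : ℤ)) (clC (X.twF 1 (X.Ker (X.iterK F i)))) = _
      rw [← twC_cls 1 hker, twC_twC (-((i + 1 : ℕ) : ℤ)) 1 (-(i : ℤ)) (by push_cast; ring)]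
    rw [hnext, show X.genC (-(i : ℤ)) (P i) = X.twC (-(i : ℤ)) (X.pullC (P i)) from rfl, h', map_add, add_comm]
  have htel : ∀ m : ℕ, ∑ i ∈ Finset.range m, (-1 : ℤ) ^ i • X.genC (-(i : ℤ)) (P i) =
      K 0 - (-1 : ℤ) ^ m • K m := by
    intro m
    induction m with
    | zero => simp
    | succ m ih =>
      rw [Finset.sum_range_succ, ih, hstep, pow_succ, smul_add]
      simp only [mul_neg_one, neg_smul]
      abel
  have h := htel (n + 1)
  rw [show K (n + 1) = 0 from (congrArg _ (clC_zero (isZero_iterK hF.1 hreg))).trans (map_zero _), smul_zero, sub_zero,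
    show K 0 = clC F from twC_zero _, ← Fin.sum_univ_eq_sum_range] at h
  rw [← h]
  exact Finset.sum_congr rfl fun i _ => (map_zsmul _ _ _).symm

variable (X) in
/-- The combinations of the negative twists. -/
def Bun.combC : (Fin (n + 1) → SGA6.Kcoh T) →+ SGA6.Kcoh X.P where
  toFun x := ∑ i : Fin (n + 1), X.genC (-((i : ℕ) : ℤ)) (x i)
  map_zero' := by simp
  map_add' x y := by simp [Finset.sum_add_distrib]

theorem bijective_combC : Function.Bijective X.combC := by
  constructor
  · refine (injective_iff_map_eq_zero _).2 fun x hx => ?_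
    have key : ∀ d : ℕ, ∀ i : Fin (n + 1), (i : ℕ) < d → x i = 0 := by
      intro d
      induction d with
      | zero => intro i hi; omega
      | succ d ih =>
        intro i hi
        rcases lt_or_ge (i : ℕ) d with h | h
        · exact ih i h
        have h' : ∀ j : Fin (n + 1), X.pushKC (X.twC ((i : ℕ) : ℤ) (X.genC (-((j : ℕ) : ℤ)) (x j))) =
            if j = i then x i else 0 := fun j => by
          rcases lt_trichotomy (j : ℕ) (i : ℕ) with hlt | heq | hgt
          · rw [ih j (by omega), map_zero, map_zero, map_zero, if_neg (fun hh => by rw [hh] at hlt; omega)]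
          · obtain rfl : j = i := Fin.ext heq
            rw [twC_genC _ _ 0 (by ring), pushKC_genC_zero, if_pos rfl]
          · rw [twC_genC _ _ (-(((j : ℕ) - (i : ℕ) : ℕ) : ℤ)) (by omega),
              pushKC_genC_neg (by omega) (by omega), if_neg (fun hh => by rw [hh] at hgt; omega)]
        have h0 := congrArg (fun z => X.pushKC (X.twC ((i : ℕ) : ℤ) z)) hx
        simp only [Bun.combC, AddMonoidHom.coe_mk, ZeroHom.coe_mk, map_sum, map_zero, h', Finset.sum_ite_eq',
          Finset.mem_univ, if_true] at h0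
        exact h0
    exact funext fun i => key (n + 1) i i.isLt
  · intro z
    have hm : z ∈ X.combC.range := by
      rw [← ofReg_toRegC z]
      refine sub_induction (Q := fun y => X.ofRegC y ∈ X.combC.range) (by simp)
        (fun y hy => by rw [map_neg]; exact neg_mem hy) (fun y y' hy hy' => by rw [map_add]; exact add_mem hy hy')
        (fun F hF => ?_) _
      show X.ofRegC (X.clrC F) ∈ _
      rw [show X.ofRegC (X.clrC F) = clC F from liftSub_cl _ _ hF, cls_eq_sumC hF.1 hF.2]
      exact ⟨_, rfl⟩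
    exact hm

variable (X) in
/-- The combinations of the positive twists. -/
def Bun.combPosC : (Fin (n + 1) → SGA6.Kcoh T) →+ SGA6.Kcoh X.P where
  toFun x := ∑ i : Fin (n + 1), X.genC ((i : ℕ) : ℤ) (x i)
  map_zero' := by simp
  map_add' x y := by simp [Finset.sum_add_distrib]

theorem bijective_combPosC : Function.Bijective X.combPosC := by
  have heq : (X.combPosC : (Fin (n + 1) → SGA6.Kcoh T) → SGA6.Kcoh X.P) =
      X.twC (n : ℤ) ∘ X.combC ∘ (fun x i => x (Fin.rev i)) := funext fun x => by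
    simp only [Function.comp_apply, Bun.combPosC, Bun.combC, AddMonoidHom.coe_mk, ZeroHom.coe_mk, map_sum]
    refine Fintype.sum_equiv Fin.revPerm _ _ fun i => ?_
    rw [twC_genC _ _ ((i : ℕ) : ℤ) (by simp only [Fin.revPerm_apply, Fin.val_rev]; omega)]
    simp [Fin.revPerm_apply]
  have ht : Function.Bijective (X.twC (n : ℤ)) := Function.bijective_iff_has_inverse.2
    ⟨X.twC (-(n : ℤ)), fun z => by rw [twC_twC _ _ 0 (by ring), twC_zero],
      fun z => by rw [twC_twC _ _ 0 (by ring), twC_zero]⟩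
  rw [heq]
  exact ht.comp (bijective_combC.comp (Function.Involutive.bijective fun x => funext fun i => by simp))

end Groth.Agent.PBReg
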