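import Groth.Agent.PBReg.CohTwist
import Groth.Agent.PBundle.Free
import Groth.Agent.PnSpec.Twist
import Groth.Agent.EulerMult.Isogeny

/-!
Coherent modules on projective space over a field.
-/

set_option autoImplicit false
set_option linter.unusedSectionVars false
set_option linter.style.haveILetI false
set_option backward.isDefEq.respectTransparency false
set_option backward.isDefEq.respectTransparency.types false
set_option maxHeartbeats 1000000

universe u

open CategoryTheory CategoryTheory.Limits AlgebraicGeometry TopologicalSpace Opposite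

noncomputable section

namespace Groth.Agent.PBReg

variable (k : Type u) [Field k]

theorem isFinLocFree_coh_field {M : (Spec (CommRingCat.of k)).Modules} (hM : Coh.IsCoh M) : FlatMod.IsFinLocFree M := by
  refine LocFree.isFinLocFree_of_affine_projective hM.1 fun x => ⟨⊤, isAffineOpen_top _, trivial, ?_⟩
  haveI : Module.Finite Γ(Spec (CommRingCat.of k), ⊤) Γ(M, ⊤) :=
    (QC.isCoh_iff_finite_sections.1 hM).2 ⟨⊤, isAffineOpen_top _⟩
  have hF : IsField Γ(Spec (CommRingCat.of k), ⊤) :=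
    (Scheme.ΓSpecIso (CommRingCat.of k)).commRingCatIsoToRingEquiv.toMulEquiv.isField (Field.toIsField k)
  letI := hF.toField
  haveI : Module.Projective Γ(Spec (CommRingCat.of k), ⊤) Γ(M, ⊤) := Module.Projective.of_free
  exact ⟨Module.finitePresentation_of_projective _ _, inferInstance⟩

theorem bijective_unit_kcoh :
    Function.Bijective (fun a : ℤ => a • clC (Coh.structureModule (Spec (CommRingCat.of k)))) := by
  let S := Spec (CommRingCat.of k)
  haveI : ConnectedSpace S := inferInstanceAs (ConnectedSpace (PrimeSpectrum k))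
  let rk : SGA6.Kcoh S →+ ℤ := PnReg.liftSub (fun M => (SGA6Ext.rank M.1 : ℤ)) fun D h₁ h₂ h₃ hD => by
    rw [SGA6Ext.rank_middle hD (isFinLocFree_coh_field k h₁) (isFinLocFree_coh_field k h₃), Nat.cast_add]
  have hO : Coh.IsCoh (Coh.structureModule S) := Devissage.isCoh_unit S
  have h1 : rk (clC (Coh.structureModule S)) = 1 :=
    (PnReg.liftSub_cl _ _ hO).trans (by rw [SGA6Ext.rank_of SGA6Ext.isRank_unit, Nat.cast_one])
  refine ⟨fun a b h => ?_, fun y => ?_⟩
  · have h' := congrArg rk h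
    simp only [map_zsmul] at h'
    rw [show rk (clC (Coh.structureModule (Spec (CommRingCat.of k)))) = 1 from h1] at h'
    simpa using h'
  refine PnReg.sub_induction (P := fun M : S.Modules => Coh.IsCoh M)
    (Q := fun y => ∃ a : ℤ, a • clC (Coh.structureModule S) = y) ⟨0, zero_zsmul _⟩
    (fun x ⟨a, ha⟩ => ⟨-a, by rw [neg_zsmul, ha]⟩) (fun x y ⟨a, ha⟩ ⟨b, hb⟩ => ⟨a + b, by rw [add_zsmul, ha, hb]⟩)
    (fun M hM => ?_) y
  have hM' := isFinLocFree_coh_field k hM
  obtain ⟨e⟩ := EulerMult.nonempty_iso_free_field (SGA6Ext.isRank hM')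
  refine ⟨SGA6Ext.rank M, ?_⟩
  have hfun : ∀ N : S.Modules, FlatMod.IsFinLocFree N → Coh.IsCoh N := fun _ h => K0Coh.isCoh_of_isFinLocFree h
  have h0 := PnReg.rel_free_tensor (Pp := fun N : S.Modules => Coh.IsCoh N ∧ FlatMod.IsFinLocFree N)
    (fun N hN => ⟨K0Coh.isCoh_of_isZero hN, DQCoh.isFinLocFree_of_isZero hN⟩)
    (fun i h => ⟨K0Coh.isCoh_of_iso i h.1, DQCoh.isFinLocFree_of_iso' i h.2⟩)
    (fun hD h₁ h₃ => ⟨hfun _ (VBTwo.isFinLocFree_middle hD h₁.2 h₃.2), VBTwo.isFinLocFree_middle hD h₁.2 h₃.2⟩)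
    (fun N => clC N) (fun hD h₁ h₂ h₃ => K0Res.clSub_add (fun N : S.Modules => Coh.IsCoh N) hD h₁.1 h₂.1 h₃.1)
    (fun i h => clC_iso i h.1) (SGA6Ext.finLocFree_unit S) ⟨hO, SGA6Ext.finLocFree_unit S⟩ (SGA6Ext.rank M)
  rw [← h0.2]
  exact clC_iso (TMul.commIso _ _ ≪≫ TMul.leftUnitIso _ ≪≫ e.symm) h0.1.1

theorem isInverse_twist_negOne (n : ℕ) :
    ClSub.IsInverseOf (Twist.twistProjSpace n k (-1)) (Twist.twistProjSpace n k 1) := by
  obtain ⟨i⟩ := GrT.nonempty_tensor_iso (a := (-1 : ℤ)) (b := 1) (c := 0) (CohB1.polyGrading n k)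
    (CohFinite.cov_one n k) (by norm_num)
  obtain ⟨z⟩ := GrT.nonempty_iso_tensorPow (𝒜 := CohB1.polyGrading n k) (CohFinite.cov_one n k) 0
  exact ⟨i ≪≫ eqToIso (congrArg _ (Nat.cast_zero (R := ℤ)).symm) ≪≫ z⟩

theorem twist_neg_pow (n : ℕ) :
    ∀ i : ℕ, Nonempty (Twist.twistProjSpace n k (-(i : ℤ)) ≅ CohB1.tensorPow (Twist.twistProjSpace n k (-1)) i)
  | 0 => by
    obtain ⟨z⟩ := GrT.nonempty_iso_tensorPow (𝒜 := CohB1.polyGrading n k) (CohFinite.cov_one n k) 0
    exact ⟨eqToIso (congrArg _ (by norm_num)) ≪≫ z⟩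
  | i + 1 => by
    obtain ⟨e⟩ := twist_neg_pow n i
    obtain ⟨t⟩ := GrT.nonempty_tensor_iso (a := -(i : ℤ)) (b := -1) (c := -((i + 1 : ℕ) : ℤ)) (CohB1.polyGrading n k)
      (CohFinite.cov_one n k) (by push_cast; ring)
    exact ⟨t.symm ≪≫ PicGrp.tensorModIso e (Iso.refl _)⟩

theorem bijective_twists_field (n : ℕ) :
    Function.Bijective (fun a : Fin (n + 1) → ℤ => ∑ i : Fin (n + 1),
      a i • clC (Twist.twistProjSpace n k (-((i : ℕ) : ℤ)))) := by
  let S := Spec (CommRingCat.of k)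
  obtain ⟨e, he, htw⟩ := PnSpec.exists_iso_twist n k
  have sq : IsPullback e.hom (CohB1.ProjSpace.toSpec n k) (CohB1.ProjSpaceOver.toBase n S) (𝟙 S) :=
    IsPullback.of_horiz_isIso ⟨by rw [Category.comp_id, he]⟩
  have h1 := PBundle.of_isPullback (PBundle.isProjBundle_free (n := n) (S := S)) sq
  have h2 := PBundle.of_moduleIso h1 ((Scheme.Modules.pullbackId S).app (FlatMod.freeMod S (n + 1))).symm
  have hfree : FlatMod.IsFinLocFreeOfRank (n + 1) (FlatMod.freeMod S (n + 1)) := fun _ =>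
    ⟨⊤, trivial, ⟨(Scheme.Modules.restrictFunctorIsoPullback (⊤ : S.Opens).ι).app _ ≪≫
      Groth.Agent.DerPerf.pullFreeIso (⊤ : S.Opens).ι (n + 1)⟩⟩
  let X : Bun n S := ⟨CohB1.ProjSpace n k, CohB1.ProjSpace.toSpec n k, FlatMod.freeMod S (n + 1), hfree, _, _, h2⟩
  haveI : IsNoetherian X.P := CohFinite.isNoetherian_projSpace n k
  obtain ⟨tw⟩ := htw 1
  have hL : ClSub.IsInverseOf (Twist.twistProjSpace n k (-1)) X.O1 := by
    obtain ⟨i⟩ := isInverse_twist_negOne k n
    exact ⟨PicGrp.tensorModIso (Iso.refl _) tw ≪≫ i⟩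
  have hcls : ∀ i : ℕ, X.genC (-(i : ℤ)) (clC (Coh.structureModule S)) = clC (Twist.twistProjSpace n k (-(i : ℤ))) := by
    intro i
    rw [genC_cls _ (Devissage.isCoh_unit S)]
    obtain ⟨a⟩ := twist_neg_pow k n i
    obtain ⟨b⟩ := nonempty_O_pow (X := X) hL i
    exact clC_iso (PicGrp.tensorModIso (Iso.refl _) (DerPerf.pullUnitIso X.π) ≪≫ TMul.commIso _ _ ≪≫
      TMul.leftUnitIso _ ≪≫ b.symm ≪≫ a.symm) (isCoh_twF X _ (isCoh_pull X (Devissage.isCoh_unit S)))
  have hfun : (fun a : Fin (n + 1) → ℤ => ∑ i : Fin (n + 1), a i • clC (Twist.twistProjSpace n k (-((i : ℕ) : ℤ)))) =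
      X.combC ∘ fun a i => a i • clC (Coh.structureModule S) := by
    funext a
    exact Finset.sum_congr rfl fun i _ => by rw [map_zsmul, hcls]
  rw [hfun]
  exact (bijective_combC (X := X)).comp (Function.Bijective.piMap fun _ => bijective_unit_kcoh k)

end Groth.Agent.PBReg
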