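import Groth.Agent.PBReg.Koszul
import Groth.Agent.PnReg.KIso

/-!
Push-forward on the Grothendieck group of bundles of a projective bundle.
-/

set_option autoImplicit false
set_option linter.unusedSectionVars false
set_option linter.style.haveILetI false
set_option backward.isDefEq.respectTransparency false
set_option backward.isDefEq.respectTransparency.types false
set_option maxHeartbeats 1000000

universe u

open CategoryTheory CategoryTheory.Limits AlgebraicGeometry TopologicalSpace Opposite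
open Groth.Agent.PnReg (liftSub liftSub_cl sub_induction)

noncomputable section

namespace Groth.Agent.PBReg

variable {n : ℕ} {T : Scheme.{u}} (X : Bun n T)

theorem isFLF_middle {S : ShortComplex X.P.Modules} (hS : S.ShortExact) (h₁ : FlatMod.IsFinLocFree S.X₁)
    (h₃ : FlatMod.IsFinLocFree S.X₃) : FlatMod.IsFinLocFree S.X₂ := VBTwo.isFinLocFree_middle hS h₁ h₃

/-- Regular bundles. -/
abbrev Bun.regP : ObjectProperty X.P.Modules := fun M => FlatMod.IsFinLocFree M ∧ X.IsReg M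

/-- The class of a regular bundle. -/
abbrev Bun.clr (M : X.P.Modules) : KZero.K0sub X.regP := KZero.clSub X.regP M

variable {X}

theorem regP_iso {M N : X.P.Modules} (e : M ≅ N) (h : X.regP M) : X.regP N :=
  ⟨DQCoh.isFinLocFree_of_iso' e h.1, isReg_of_iso e h.2⟩

theorem regP_zero (M : X.P.Modules) (hM : IsZero M) : X.regP M :=
  ⟨DQCoh.isFinLocFree_of_isZero hM, isReg_of_isZero hM⟩

theorem clr_iso {M N : X.P.Modules} (e : M ≅ N) (h : X.regP M) : X.clr M = X.clr N :=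
  PnReg.clSub_iso X.regP e h (regP_iso e h) regP_zero

theorem regP_X3 {S : ShortComplex X.P.Modules} (hS : S.ShortExact) (h₁ : X.regP S.X₁) (h₂ : X.regP S.X₂)
    (h₃ : FlatMod.IsFinLocFree S.X₃) : X.regP S.X₃ := by
  refine ⟨h₃, isReg_X3 hS (isQCoh_of_finLocFree h₁.1) (isQCoh_of_finLocFree h₂.1) (isQCoh_of_finLocFree h₃) h₂.2 ?_⟩
  have h := isReg_twF (isQCoh_of_finLocFree h₁.1) h₁.2 1
  rwa [Nat.cast_one] at h

variable (X) in
/-- Bundles regular from the twist `m` on. -/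
def Bun.Good (m : ℕ) (F : X.P.Modules) : Prop := FlatMod.IsFinLocFree F ∧ X.IsReg (X.twF (m : ℤ) F)

theorem good_le {m m' : ℕ} (h : m ≤ m') {F : X.P.Modules} (hF : X.Good m F) : X.Good m' F := by
  obtain ⟨d, rfl⟩ := Nat.exists_eq_add_of_le h
  obtain ⟨e⟩ := X.twF_twF F (d : ℤ) (m : ℤ) ((m + d : ℕ) : ℤ) (by push_cast; ring)
  exact ⟨hF.1, isReg_of_iso e (isReg_twF (isQCoh_twF _ (isQCoh_of_finLocFree hF.1)) hF.2 d)⟩

theorem good_iso {m : ℕ} {F G : X.P.Modules} (e : F ≅ G) (hF : X.Good m F) : X.Good m G :=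
  ⟨DQCoh.isFinLocFree_of_iso' e hF.1, isReg_of_iso (PicGrp.tensorModIso (Iso.refl _) e) hF.2⟩

theorem good_zero {F : X.P.Modules} : X.Good 0 F ↔ X.regP F := by
  obtain ⟨e⟩ := X.twF_zero F
  exact ⟨fun h => ⟨h.1, isReg_of_iso e h.2⟩, fun h => ⟨h.1, isReg_of_iso e.symm h.2⟩⟩

theorem good_term {m : ℕ} {F : X.P.Modules} (hF : X.Good (m + 1) F) (j : ℕ) : X.Good m (X.term j F) := by
  refine ⟨isFinLocFree_term X j hF.1, ?_⟩
  obtain ⟨t⟩ := nonempty_term X j F
  obtain ⟨e⟩ := X.twF_twF F (m : ℤ) ((j + 1 : ℕ) : ℤ) ((j + (m + 1) : ℕ) : ℤ) (by push_cast; ring)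
  obtain ⟨e'⟩ := X.twF_twF F (j : ℤ) ((m + 1 : ℕ) : ℤ) ((j + (m + 1) : ℕ) : ℤ) (by push_cast; ring)
  refine isReg_of_iso ((X.moveIso _ _ (m : ℤ)) ≪≫ PicGrp.tensorModIso (Iso.refl _) t.symm) ?_
  exact isReg_pull_tensor (isFinLocFree_coef X j) (isReg_of_iso (e' ≪≫ e.symm)
    (isReg_twF (isQCoh_twF _ (isQCoh_of_finLocFree hF.1)) hF.2 j))

variable (X) in
/-- The expression of a bundle through regular bundles. -/
def Bun.psi : ℕ → X.P.Modules → KZero.K0sub X.regP
  | 0 => X.clr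
  | m + 1 => fun F => ∑ j ∈ Finset.range (n + 1), (-1 : ℤ) ^ j • Bun.psi m (X.term j F)

theorem psi_iso : ∀ (m : ℕ) {F G : X.P.Modules} (_ : F ≅ G), X.Good m F → X.psi m F = X.psi m G
  | 0, _, _, e, h => clr_iso e (good_zero.1 h)
  | m + 1, F, G, e, h => Finset.sum_congr rfl fun j _ =>
    congrArg _ (psi_iso m (PicGrp.tensorModIso e (Iso.refl _)) (good_term h j))

theorem psi_succ : ∀ (m : ℕ) {F : X.P.Modules}, X.Good m F → X.psi (m + 1) F = X.psi m F
  | 0, F, h => by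
    have hr := good_zero.1 h
    exact (rel X (Pp := X.regP) (fun e h => regP_iso e h) (fun hS h₁ h₂ h₃ => regP_X3 hS h₁ h₂ h₃) X.clr
      (fun hS h₁ h₂ h₃ => K0Res.clSub_add _ hS h₁ h₂ h₃) (fun e h => clr_iso e h) h.1 hr
      fun j _ => good_zero.1 (good_term (good_le (Nat.le_succ 0) h) j)).symm
  | m + 1, F, h => Finset.sum_congr rfl fun j _ => congrArg _ (psi_succ m (good_term h j))

theorem psi_le {m m' : ℕ} (h : m ≤ m') {F : X.P.Modules} (hF : X.Good m F) : X.psi m' F = X.psi m F := by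
  induction m', h using Nat.le_induction with
  | base => rfl
  | succ k hk ih => rw [psi_succ k (good_le hk hF), ih]

theorem psi_add : ∀ (m : ℕ) {S : ShortComplex X.P.Modules}, S.ShortExact → X.Good m S.X₁ → X.Good m S.X₂ →
    X.Good m S.X₃ → X.psi m S.X₂ = X.psi m S.X₁ + X.psi m S.X₃
  | 0, S, hS, h₁, h₂, h₃ => K0Res.clSub_add X.regP hS (good_zero.1 h₁) (good_zero.1 h₂) (good_zero.1 h₃)
  | m + 1, S, hS, h₁, h₂, h₃ => by
    simp only [Bun.psi]
    rw [← Finset.sum_add_distrib]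
    refine Finset.sum_congr rfl fun j _ => ?_
    rw [← smul_add]
    exact congrArg _ (psi_add m (PnReg.shortExact_tensor (isFinLocFree_coefTw X j) hS) (good_term h₁ j)
      (good_term h₂ j) (good_term h₃ j))

variable (X) in
/-- The inclusion. -/
def Bun.ofReg : KZero.K0sub X.regP →+ SGA6.Kvb X.P :=
  liftSub (fun F => SGA6Ext.cls F.1) fun S h₁ h₂ h₃ hS =>
    K0Res.clSub_add (fun M => FlatMod.IsFinLocFree M) hS h₁.1 h₂.1 h₃.1

theorem ofReg_psi : ∀ (m : ℕ) {F : X.P.Modules}, X.Good m F → X.ofReg (X.psi m F) = SGA6Ext.cls F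
  | 0, F, h => liftSub_cl _ _ (good_zero.1 h)
  | m + 1, F, h => by
    simp only [Bun.psi, map_sum, map_zsmul]
    refine Eq.trans (Finset.sum_congr rfl fun j _ => congrArg _ (ofReg_psi m (good_term h j))) ?_
    exact (rel X (Pp := fun M => FlatMod.IsFinLocFree M) (fun e h => DQCoh.isFinLocFree_of_iso' e h)
      (fun _ _ _ h₃ => h₃) SGA6Ext.cls (fun hS h₁ h₂ h₃ => K0Res.clSub_add (fun M => FlatMod.IsFinLocFree M) hS h₁ h₂ h₃)
      (fun e h => SGA6Ext.cls_iso e h) h.1 h.1 fun j _ => isFinLocFree_term X j h.1).symm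

variable [CompactSpace T]

theorem exists_good {F : X.P.Modules} (hF : FlatMod.IsFinLocFree F) : ∃ m, X.Good m F :=
  let ⟨m, hm⟩ := exists_reg_twF hF
  ⟨m, hF, hm m le_rfl⟩

variable (X) in
/-- Bundles as combinations of regular bundles. -/
def Bun.toReg : SGA6.Kvb X.P →+ KZero.K0sub X.regP :=
  SGA6Ext.liftK (fun F => X.psi (exists_good F.2).choose F.1) fun S h₁ h₂ h₃ hS => by
    have g₁ := (exists_good (X := X) h₁).choose_spec
    have g₂ := (exists_good (X := X) h₂).choose_spec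
    have g₃ := (exists_good (X := X) h₃).choose_spec
    set a := (exists_good (X := X) h₁).choose
    set b := (exists_good (X := X) h₂).choose
    set c := (exists_good (X := X) h₃).choose
    rw [← psi_le (le_max_left a (max b c)) g₁, ← psi_le ((le_max_left b c).trans (le_max_right a _)) g₂,
      ← psi_le ((le_max_right b c).trans (le_max_right a _)) g₃]
    exact psi_add _ hS (good_le (le_max_left a (max b c)) g₁) (good_le ((le_max_left b c).trans (le_max_right a _)) g₂)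
      (good_le ((le_max_right b c).trans (le_max_right a _)) g₃)

theorem toReg_cls {m : ℕ} {F : X.P.Modules} (hF : X.Good m F) : X.toReg (SGA6Ext.cls F) = X.psi m F := by
  refine (SGA6Ext.liftK_cls _ _ F hF.1).trans ?_
  have g := (exists_good (X := X) hF.1).choose_spec
  exact (psi_le (le_max_left _ m) g).symm.trans (psi_le (le_max_right _ m) hF)

theorem ofReg_toReg (x : SGA6.Kvb X.P) : X.ofReg (X.toReg x) = x := by
  refine SGA6Ext.cls_induction (C := fun x => X.ofReg (X.toReg x) = x) (by simp) (fun x hx => by simp [hx])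
    (fun x y hx hy => by simp [hx, hy]) (fun F hF => ?_) x
  obtain ⟨m, hm⟩ := exists_good (X := X) hF
  rw [toReg_cls hm, ofReg_psi m hm]

theorem toReg_ofReg (x : KZero.K0sub X.regP) : X.toReg (X.ofReg x) = x := by
  refine sub_induction (Q := fun x => X.toReg (X.ofReg x) = x) (by simp) (fun x hx => by simp [hx])
    (fun x y hx hy => by simp [hx, hy]) (fun F hF => ?_) x
  show X.toReg (X.ofReg (X.clr F)) = X.clr F
  rw [show X.ofReg (X.clr F) = SGA6Ext.cls F from liftSub_cl _ _ hF, toReg_cls (good_zero.2 hF)]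
  rfl

variable (X) in
/-- Push-forward of regular bundles. -/
def Bun.pushR : KZero.K0sub X.regP →+ SGA6.Kvb T :=
  liftSub (fun F => SGA6Ext.cls ((Scheme.Modules.pushforward X.π).obj F.1)) fun S h₁ h₂ h₃ hS =>
    have a₁ := acyclic_of_reg (isQCoh_of_finLocFree h₁.1) h₁.2
    K0Res.clSub_add (fun M => FlatMod.IsFinLocFree M) (shortExact_push hS (isQCoh_of_finLocFree h₁.1) a₁)
      (isFinLocFree_push h₁.1 a₁) (isFinLocFree_push h₂.1 (acyclic_of_reg (isQCoh_of_finLocFree h₂.1) h₂.2))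
      (isFinLocFree_push h₃.1 (acyclic_of_reg (isQCoh_of_finLocFree h₃.1) h₃.2))

variable (X) in
/-- Push-forward of bundles. -/
def Bun.pushK : SGA6.Kvb X.P →+ SGA6.Kvb T := X.pushR.comp X.toReg

variable (X) in
/-- All non-negative twists have no higher direct images. -/
def Bun.Acy (F : X.P.Modules) : Prop := FlatMod.IsFinLocFree F ∧ ∀ k : ℕ, X.Acyclic (X.twF (k : ℤ) F)

theorem acy_acyclic {F : X.P.Modules} (hF : X.Acy F) : X.Acyclic F := by
  obtain ⟨e⟩ := X.twF_zero F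
  exact acyclic_of_iso e (hF.2 0)

theorem acyclic_X3 {S : ShortComplex X.P.Modules} (hS : S.ShortExact) (h₁ : Coh.IsQCoh S.X₁) (h₂ : Coh.IsQCoh S.X₂)
    (h₃ : Coh.IsQCoh S.X₃) (a₁ : X.Acyclic S.X₁) (a₂ : X.Acyclic S.X₂) : X.Acyclic S.X₃ := fun i hi =>
  (isZero_iff _ h₃ i).2 fun V c => CohFinite.subsingleton_of_shortExact (c.shortExact hS) i
    ((isZero_iff _ h₂ i).1 (a₂ i hi) V c) ((isZero_iff _ h₁ (i + 1)).1 (a₁ (i + 1) (by omega)) V c)

theorem acy_iso {F G : X.P.Modules} (e : F ≅ G) (h : X.Acy F) : X.Acy G :=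
  ⟨DQCoh.isFinLocFree_of_iso' e h.1, fun k => acyclic_of_iso (PicGrp.tensorModIso (Iso.refl _) e) (h.2 k)⟩

theorem acy_X3 {S : ShortComplex X.P.Modules} (hS : S.ShortExact) (h₁ : X.Acy S.X₁) (h₂ : X.Acy S.X₂)
    (h₃ : FlatMod.IsFinLocFree S.X₃) : X.Acy S.X₃ := by
  refine ⟨h₃, fun k => ?_⟩
  have hk := PnReg.shortExact_tensor (ResDesc.isFinLocFree_of_isInvertible (X.inv_O (k : ℤ))) hS
  refine acyclic_of_iso (X.twComm _ _) (acyclic_X3 hk ?_ ?_ ?_ (acyclic_of_iso (X.twComm _ _).symm (h₁.2 k))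
    (acyclic_of_iso (X.twComm _ _).symm (h₂.2 k)))
  · exact QC.isQCoh_of_iso (X.twComm _ _).symm (isQCoh_twF _ (isQCoh_of_finLocFree h₁.1))
  · exact QC.isQCoh_of_iso (X.twComm _ _).symm (isQCoh_twF _ (isQCoh_of_finLocFree h₂.1))
  · exact QC.isQCoh_of_iso (X.twComm _ _).symm (isQCoh_twF _ (isQCoh_of_finLocFree h₃))

theorem acy_term {F : X.P.Modules} (hF : X.Acy F) (j : ℕ) : X.Acy (X.term j F) := by
  refine ⟨isFinLocFree_term X j hF.1, fun k => ?_⟩
  obtain ⟨t⟩ := nonempty_term X j F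
  obtain ⟨e⟩ := X.twF_twF F (k : ℤ) ((j + 1 : ℕ) : ℤ) ((k + (j + 1) : ℕ) : ℤ) (by push_cast; ring)
  refine acyclic_of_iso ((X.moveIso _ _ (k : ℤ)) ≪≫ PicGrp.tensorModIso (Iso.refl _) t.symm) ?_
  exact acyclic_pull_tensor (isFinLocFree_coef X j) (acyclic_of_iso e.symm (hF.2 _))

theorem pushR_psi : ∀ (m : ℕ) {F : X.P.Modules}, X.Good m F → X.Acy F →
    X.pushR (X.psi m F) = SGA6Ext.cls ((Scheme.Modules.pushforward X.π).obj F)
  | 0, F, h, _ => liftSub_cl _ _ (good_zero.1 h)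
  | m + 1, F, h, ha => by
    simp only [Bun.psi, map_sum, map_zsmul]
    refine Eq.trans (Finset.sum_congr rfl fun j _ => congrArg _ (pushR_psi m (good_term h j) (acy_term ha j))) ?_
    exact (rel X (Pp := X.Acy) (fun e h => acy_iso e h)
      (fun hS h₁ h₂ h₃ => acy_X3 hS h₁ h₂ h₃) (fun M => SGA6Ext.cls ((Scheme.Modules.pushforward X.π).obj M))
      (fun hS h₁ h₂ h₃ => K0Res.clSub_add (fun M => FlatMod.IsFinLocFree M)
        (shortExact_push hS (isQCoh_of_finLocFree h₁.1) (acy_acyclic h₁)) (isFinLocFree_push h₁.1 (acy_acyclic h₁))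
        (isFinLocFree_push h₂.1 (acy_acyclic h₂)) (isFinLocFree_push h₃.1 (acy_acyclic h₃)))
      (fun e h => SGA6Ext.cls_iso ((Scheme.Modules.pushforward X.π).mapIso e) (isFinLocFree_push h.1 (acy_acyclic h)))
      h.1 ha fun j _ => acy_term ha j).symm

/-- Push-forward of an acyclic bundle is the class of the direct image. -/
theorem pushK_cls {F : X.P.Modules} (hF : X.Acy F) :
    X.pushK (SGA6Ext.cls F) = SGA6Ext.cls ((Scheme.Modules.pushforward X.π).obj F) := by
  obtain ⟨m, hm⟩ := exists_good (X := X) hF.1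
  show X.pushR (X.toReg (SGA6Ext.cls F)) = _
  rw [toReg_cls hm, pushR_psi m hm hF]

end Groth.Agent.PBReg
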