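import Groth.Agent.PBReg.CohExact
import Groth.Agent.PBReg.KPush
import Groth.Agent.CohFinite.Serre

/-!
Push-forward on the Grothendieck group of coherent modules of a projective bundle.
-/

set_option autoImplicit false
set_option linter.unusedSectionVars false
set_option linter.style.haveILetI false
set_option backward.isDefEq.respectTransparency false
set_option backward.isDefEq.respectTransparency.types false
set_option maxHeartbeats 1000000

universe u

open CategoryTheory CategoryTheory.Limits AlgebraicGeometry TopologicalSpace Opposite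
open Groth.Agent.PnReg (liftSub liftSub_cl sub_induction Ot Reg)

noncomputable section

namespace Groth.Agent.PBReg

variable {n : ℕ} {T : Scheme.{u}} (X : Bun n T) [IsNoetherian T] [IsNoetherian X.P]

/-- The class of a coherent module. -/
abbrev clC {Y : Scheme.{u}} (M : Y.Modules) : SGA6.Kcoh Y := KZero.clSub (fun M : Y.Modules => Coh.IsCoh M) M

theorem clC_iso {Y : Scheme.{u}} [IsLocallyNoetherian Y] {M N : Y.Modules} (e : M ≅ N) (h : Coh.IsCoh M) : clC M = clC N :=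
  PnReg.clSub_iso (fun M : Y.Modules => Coh.IsCoh M) e h (K0Coh.isCoh_of_iso e h) fun _ hM => K0Coh.isCoh_of_isZero hM

theorem clC_zero {Y : Scheme.{u}} [IsLocallyNoetherian Y] {M : Y.Modules} (hz : IsZero M) : clC M = 0 := by
  have hf := K0Coh.isCoh_of_isZero hz
  have h1 : (ShortComplex.mk (0 : M ⟶ M) (0 : M ⟶ M) zero_comp).ShortExact :=
    { exact := ShortComplex.exact_of_isZero_X₂ _ hz
      mono_f := ⟨fun _ _ _ => hz.eq_of_tgt _ _⟩
      epi_g := ⟨fun _ _ _ => hz.eq_of_src _ _⟩ }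
  exact left_eq_add.1 (K0Res.clSub_add (fun M : Y.Modules => Coh.IsCoh M) h1 hf hf hf)

/-- The direct image of a coherent module is coherent. -/
theorem isCoh_pushC {F : X.P.Modules} (hF : Coh.IsCoh F) : Coh.IsCoh ((Scheme.Modules.pushforward X.π).obj F) :=
  haveI := isProper X
  Intersect.isCoh_push' X.π hF

/-- High twists of coherent modules are regular. -/
theorem exists_reg_twFC {F : X.P.Modules} (hF : Coh.IsCoh F) :
    ∃ m₀ : ℕ, ∀ m : ℕ, m₀ ≤ m → X.IsReg (X.twF (m : ℤ) F) := by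
  choose V hV _ hc using fun y => exists_chart X (U := ⊤) (y := y) trivial
  obtain ⟨t, ht⟩ := isCompact_univ.elim_finite_subcover (fun y : T => (V y : Set T)) (fun y => (V y).2)
    fun y _ => Set.mem_iUnion.2 ⟨y, hV y⟩
  have hb : ∀ y : T, ∃ N : ℕ, ∀ m : ℕ, N ≤ m → Reg ((hc y).some.Q.obj F) (m : ℤ) := fun y => by
    let c := (hc y).some
    haveI : IsNoetherianRing Γ(T, V y) := IsLocallyNoetherian.component_noetherian ⟨V y, c.aff⟩
    have hQ : Coh.IsCoh (c.Q.obj F) := QC.isCoh_pullback c.q hF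
    obtain ⟨m₁, hm₁⟩ := CohFinite.vanish_projSpace n Γ(T, V y) _ hQ
    refine ⟨m₁ + n, fun m hm q hq => ?_⟩
    rcases lt_or_ge n q with h | h
    · exact PnReg.hh_above _ (PnReg.isQCoh_twist (c.isQCoh hF.1) _) q h
    obtain ⟨p, rfl⟩ : ∃ p, q = p + 1 := ⟨q - 1, by omega⟩
    obtain ⟨e⟩ := GrT.nonempty_iso_tensorPow (𝒜 := CohB1.polyGrading n Γ(T, V y)) (CohFinite.cov_one n _) (m - (p + 1))
    have hh := hm₁ (m - (p + 1)) (by omega) p
    rw [show (m : ℤ) - ((p + 1 : ℕ) : ℤ) = ((m - (p + 1) : ℕ) : ℤ) by omega]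
    exact CohQC.hh_subsingleton_of_iso (PicGrp.tensorModIso (Iso.refl _) e).symm _ hh
  choose N hN using hb
  refine ⟨t.sup N, fun m hm q hq => ?_⟩
  refine W7Hull.isZero_rpushAb_of_cover _ _ (isQCoh_twF _ (isQCoh_twF _ hF.1)) q fun z => ?_
  obtain ⟨y, hy⟩ := Set.mem_iUnion.1 (ht (Set.mem_univ z))
  obtain ⟨hyt, hzy⟩ := Set.mem_iUnion.1 hy
  let c := (hc y).some
  refine ⟨V y, c.aff, hzy, (c.subsingleton_iff _ (isQCoh_twF _ (isQCoh_twF _ hF.1)) q).2 ?_⟩
  obtain ⟨e⟩ := c.nonempty_twF (-(q : ℤ)) (X.twF (m : ℤ) F)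
  have h := (c.reg_twF (m : ℤ) F).2 (hN y m ((Finset.le_sup hyt).trans hm)) q hq
  rw [zero_sub] at h
  exact CohQC.hh_subsingleton_of_iso e.symm q h


/-- Regular bundles. -/
abbrev Bun.regPC : ObjectProperty X.P.Modules := fun M => Coh.IsCoh M ∧ X.IsReg M

/-- The class of a regular bundle. -/
abbrev Bun.clrC (M : X.P.Modules) : KZero.K0sub X.regPC := KZero.clSub X.regPC M

variable {X}

theorem regP_isoC {M N : X.P.Modules} (e : M ≅ N) (h : X.regPC M) : X.regPC N :=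
  ⟨K0Coh.isCoh_of_iso e h.1, isReg_of_iso e h.2⟩

theorem regP_zeroC (M : X.P.Modules) (hM : IsZero M) : X.regPC M :=
  ⟨K0Coh.isCoh_of_isZero hM, isReg_of_isZero hM⟩

theorem clr_isoC {M N : X.P.Modules} (e : M ≅ N) (h : X.regPC M) : X.clrC M = X.clrC N :=
  PnReg.clSub_iso X.regPC e h (regP_isoC e h) regP_zeroC

theorem regP_X3C {S : ShortComplex X.P.Modules} (hS : S.ShortExact) (h₁ : X.regPC S.X₁) (h₂ : X.regPC S.X₂)
    (h₃ : Coh.IsCoh S.X₃) : X.regPC S.X₃ := by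
  refine ⟨h₃, isReg_X3 hS (h₁.1).1 (h₂.1).1 (h₃).1 h₂.2 ?_⟩
  have h := isReg_twF (h₁.1).1 h₁.2 1
  rwa [Nat.cast_one] at h

variable (X) in
/-- Bundles regular from the twist `m` on. -/
def Bun.GoodC (m : ℕ) (F : X.P.Modules) : Prop := Coh.IsCoh F ∧ X.IsReg (X.twF (m : ℤ) F)

theorem good_leC {m m' : ℕ} (h : m ≤ m') {F : X.P.Modules} (hF : X.GoodC m F) : X.GoodC m' F := by
  obtain ⟨d, rfl⟩ := Nat.exists_eq_add_of_le h
  obtain ⟨e⟩ := X.twF_twF F (d : ℤ) (m : ℤ) ((m + d : ℕ) : ℤ) (by push_cast; ring)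
  exact ⟨hF.1, isReg_of_iso e (isReg_twF (isQCoh_twF _ (hF.1).1) hF.2 d)⟩

theorem good_isoC {m : ℕ} {F G : X.P.Modules} (e : F ≅ G) (hF : X.GoodC m F) : X.GoodC m G :=
  ⟨K0Coh.isCoh_of_iso e hF.1, isReg_of_iso (PicGrp.tensorModIso (Iso.refl _) e) hF.2⟩

theorem good_zeroC {F : X.P.Modules} : X.GoodC 0 F ↔ X.regPC F := by
  obtain ⟨e⟩ := X.twF_zero F
  exact ⟨fun h => ⟨h.1, isReg_of_iso e h.2⟩, fun h => ⟨h.1, isReg_of_iso e.symm h.2⟩⟩

theorem good_termC {m : ℕ} {F : X.P.Modules} (hF : X.GoodC (m + 1) F) (j : ℕ) : X.GoodC m (X.term j F) := by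
  refine ⟨isCoh_term X j hF.1, ?_⟩
  obtain ⟨t⟩ := nonempty_term X j F
  obtain ⟨e⟩ := X.twF_twF F (m : ℤ) ((j + 1 : ℕ) : ℤ) ((j + (m + 1) : ℕ) : ℤ) (by push_cast; ring)
  obtain ⟨e'⟩ := X.twF_twF F (j : ℤ) ((m + 1 : ℕ) : ℤ) ((j + (m + 1) : ℕ) : ℤ) (by push_cast; ring)
  refine isReg_of_iso ((X.moveIso _ _ (m : ℤ)) ≪≫ PicGrp.tensorModIso (Iso.refl _) t.symm) ?_
  exact isReg_pull_tensor (isFinLocFree_coef X j) (isReg_of_iso (e' ≪≫ e.symm)
    (isReg_twF (isQCoh_twF _ (hF.1).1) hF.2 j))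

variable (X) in
/-- The expression of a bundle through regular bundles. -/
def Bun.psiC : ℕ → X.P.Modules → KZero.K0sub X.regPC
  | 0 => X.clrC
  | m + 1 => fun F => ∑ j ∈ Finset.range (n + 1), (-1 : ℤ) ^ j • Bun.psiC m (X.term j F)

theorem psi_isoC : ∀ (m : ℕ) {F G : X.P.Modules} (_ : F ≅ G), X.GoodC m F → X.psiC m F = X.psiC m G
  | 0, _, _, e, h => clr_isoC e (good_zeroC.1 h)
  | m + 1, F, G, e, h => Finset.sum_congr rfl fun j _ =>
    congrArg _ (psi_isoC m (PicGrp.tensorModIso e (Iso.refl _)) (good_termC h j))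

theorem psi_succC : ∀ (m : ℕ) {F : X.P.Modules}, X.GoodC m F → X.psiC (m + 1) F = X.psiC m F
  | 0, F, h => by
    have hr := good_zeroC.1 h
    exact (relC X (Pp := X.regPC) (fun e h => regP_isoC e h) (fun hS h₁ h₂ h₃ => regP_X3C hS h₁ h₂ h₃) X.clrC
      (fun hS h₁ h₂ h₃ => K0Res.clSub_add _ hS h₁ h₂ h₃) (fun e h => clr_isoC e h) h.1 hr
      fun j _ => good_zeroC.1 (good_termC (good_leC (Nat.le_succ 0) h) j)).symm
  | m + 1, F, h => Finset.sum_congr rfl fun j _ => congrArg _ (psi_succC m (good_termC h j))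

theorem psi_leC {m m' : ℕ} (h : m ≤ m') {F : X.P.Modules} (hF : X.GoodC m F) : X.psiC m' F = X.psiC m F := by
  induction m', h using Nat.le_induction with
  | base => rfl
  | succ k hk ih => rw [psi_succC k (good_leC hk hF), ih]

theorem psi_addC : ∀ (m : ℕ) {S : ShortComplex X.P.Modules}, S.ShortExact → X.GoodC m S.X₁ → X.GoodC m S.X₂ →
    X.GoodC m S.X₃ → X.psiC m S.X₂ = X.psiC m S.X₁ + X.psiC m S.X₃
  | 0, S, hS, h₁, h₂, h₃ => K0Res.clSub_add X.regPC hS (good_zeroC.1 h₁) (good_zeroC.1 h₂) (good_zeroC.1 h₃)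
  | m + 1, S, hS, h₁, h₂, h₃ => by
    simp only [Bun.psiC]
    rw [← Finset.sum_add_distrib]
    refine Finset.sum_congr rfl fun j _ => ?_
    rw [← smul_add]
    exact congrArg _ (psi_addC m (PnReg.shortExact_tensor (isFinLocFree_coefTw X j) hS) (good_termC h₁ j)
      (good_termC h₂ j) (good_termC h₃ j))

variable (X) in
/-- The inclusion. -/
def Bun.ofRegC : KZero.K0sub X.regPC →+ SGA6.Kcoh X.P :=
  liftSub (fun F => clC F.1) fun S h₁ h₂ h₃ hS =>
    K0Res.clSub_add (fun M => Coh.IsCoh M) hS h₁.1 h₂.1 h₃.1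

theorem ofReg_psiC : ∀ (m : ℕ) {F : X.P.Modules}, X.GoodC m F → X.ofRegC (X.psiC m F) = clC F
  | 0, F, h => liftSub_cl _ _ (good_zeroC.1 h)
  | m + 1, F, h => by
    simp only [Bun.psiC, map_sum, map_zsmul]
    refine Eq.trans (Finset.sum_congr rfl fun j _ => congrArg _ (ofReg_psiC m (good_termC h j))) ?_
    exact (relC X (Pp := fun M => Coh.IsCoh M) (fun e h => K0Coh.isCoh_of_iso e h)
      (fun _ _ _ h₃ => h₃) clC (fun hS h₁ h₂ h₃ => K0Res.clSub_add (fun M => Coh.IsCoh M) hS h₁ h₂ h₃)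
      (fun e h => clC_iso e h) h.1 h.1 fun j _ => isCoh_term X j h.1).symm


theorem exists_goodC {F : X.P.Modules} (hF : Coh.IsCoh F) : ∃ m, X.GoodC m F :=
  let ⟨m, hm⟩ := exists_reg_twFC X hF
  ⟨m, hF, hm m le_rfl⟩

variable (X) in
/-- Bundles as combinations of regular bundles. -/
def Bun.toRegC : SGA6.Kcoh X.P →+ KZero.K0sub X.regPC :=
  liftSub (fun F => X.psiC (exists_goodC F.2).choose F.1) fun S h₁ h₂ h₃ hS => by
    have g₁ := (exists_goodC (X := X) h₁).choose_spec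
    have g₂ := (exists_goodC (X := X) h₂).choose_spec
    have g₃ := (exists_goodC (X := X) h₃).choose_spec
    set a := (exists_goodC (X := X) h₁).choose
    set b := (exists_goodC (X := X) h₂).choose
    set c := (exists_goodC (X := X) h₃).choose
    rw [← psi_leC (le_max_left a (max b c)) g₁, ← psi_leC ((le_max_left b c).trans (le_max_right a _)) g₂,
      ← psi_leC ((le_max_right b c).trans (le_max_right a _)) g₃]
    exact psi_addC _ hS (good_leC (le_max_left a (max b c)) g₁) (good_leC ((le_max_left b c).trans (le_max_right a _)) g₂)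
      (good_leC ((le_max_right b c).trans (le_max_right a _)) g₃)

theorem toReg_clsC {m : ℕ} {F : X.P.Modules} (hF : X.GoodC m F) : X.toRegC (clC F) = X.psiC m F := by
  refine (liftSub_cl _ _ hF.1).trans ?_
  have g := (exists_goodC (X := X) hF.1).choose_spec
  exact (psi_leC (le_max_left _ m) g).symm.trans (psi_leC (le_max_right _ m) hF)

theorem ofReg_toRegC (x : SGA6.Kcoh X.P) : X.ofRegC (X.toRegC x) = x := by
  refine sub_induction (P := fun M : X.P.Modules => Coh.IsCoh M) (Q := fun x => X.ofRegC (X.toRegC x) = x) (by simp) (fun x hx => by simp [hx])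
    (fun x y hx hy => by simp [hx, hy]) (fun F hF => ?_) x
  obtain ⟨m, hm⟩ := exists_goodC (X := X) hF
  rw [toReg_clsC hm, ofReg_psiC m hm]

theorem toReg_ofRegC (x : KZero.K0sub X.regPC) : X.toRegC (X.ofRegC x) = x := by
  refine sub_induction (Q := fun x => X.toRegC (X.ofRegC x) = x) (by simp) (fun x hx => by simp [hx])
    (fun x y hx hy => by simp [hx, hy]) (fun F hF => ?_) x
  show X.toRegC (X.ofRegC (X.clrC F)) = X.clrC F
  rw [show X.ofRegC (X.clrC F) = clC F from liftSub_cl _ _ hF, toReg_clsC (good_zeroC.2 hF)]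
  rfl

variable (X) in
/-- Push-forward of regular bundles. -/
def Bun.pushRC : KZero.K0sub X.regPC →+ SGA6.Kcoh T :=
  liftSub (fun F => clC ((Scheme.Modules.pushforward X.π).obj F.1)) fun S h₁ h₂ h₃ hS =>
    have a₁ := acyclic_of_reg (h₁.1).1 h₁.2
    K0Res.clSub_add (fun M => Coh.IsCoh M) (shortExact_push hS (h₁.1).1 a₁)
      (isCoh_pushC X h₁.1) (isCoh_pushC X h₂.1)
      (isCoh_pushC X h₃.1)

variable (X) in
/-- Push-forward of bundles. -/
def Bun.pushKC : SGA6.Kcoh X.P →+ SGA6.Kcoh T := X.pushRC.comp X.toRegC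

variable (X) in
/-- All non-negative twists have no higher direct images. -/
def Bun.AcyC (F : X.P.Modules) : Prop := Coh.IsCoh F ∧ ∀ k : ℕ, X.Acyclic (X.twF (k : ℤ) F)

theorem acy_acyclicC {F : X.P.Modules} (hF : X.AcyC F) : X.Acyclic F := by
  obtain ⟨e⟩ := X.twF_zero F
  exact acyclic_of_iso e (hF.2 0)

theorem acy_isoC {F G : X.P.Modules} (e : F ≅ G) (h : X.AcyC F) : X.AcyC G :=
  ⟨K0Coh.isCoh_of_iso e h.1, fun k => acyclic_of_iso (PicGrp.tensorModIso (Iso.refl _) e) (h.2 k)⟩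

theorem acy_X3C {S : ShortComplex X.P.Modules} (hS : S.ShortExact) (h₁ : X.AcyC S.X₁) (h₂ : X.AcyC S.X₂)
    (h₃ : Coh.IsCoh S.X₃) : X.AcyC S.X₃ := by
  refine ⟨h₃, fun k => ?_⟩
  have hk := PnReg.shortExact_tensor (ResDesc.isFinLocFree_of_isInvertible (X.inv_O (k : ℤ))) hS
  refine acyclic_of_iso (X.twComm _ _) (acyclic_X3 hk ?_ ?_ ?_ (acyclic_of_iso (X.twComm _ _).symm (h₁.2 k))
    (acyclic_of_iso (X.twComm _ _).symm (h₂.2 k)))
  · exact QC.isQCoh_of_iso (X.twComm _ _).symm (isQCoh_twF _ (h₁.1).1)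
  · exact QC.isQCoh_of_iso (X.twComm _ _).symm (isQCoh_twF _ (h₂.1).1)
  · exact QC.isQCoh_of_iso (X.twComm _ _).symm (isQCoh_twF _ (h₃).1)

theorem acy_termC {F : X.P.Modules} (hF : X.AcyC F) (j : ℕ) : X.AcyC (X.term j F) := by
  refine ⟨isCoh_term X j hF.1, fun k => ?_⟩
  obtain ⟨t⟩ := nonempty_term X j F
  obtain ⟨e⟩ := X.twF_twF F (k : ℤ) ((j + 1 : ℕ) : ℤ) ((k + (j + 1) : ℕ) : ℤ) (by push_cast; ring)
  refine acyclic_of_iso ((X.moveIso _ _ (k : ℤ)) ≪≫ PicGrp.tensorModIso (Iso.refl _) t.symm) ?_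
  exact acyclic_pull_tensor (isFinLocFree_coef X j) (acyclic_of_iso e.symm (hF.2 _))

theorem pushR_psiC : ∀ (m : ℕ) {F : X.P.Modules}, X.GoodC m F → X.AcyC F →
    X.pushRC (X.psiC m F) = clC ((Scheme.Modules.pushforward X.π).obj F)
  | 0, F, h, _ => liftSub_cl _ _ (good_zeroC.1 h)
  | m + 1, F, h, ha => by
    simp only [Bun.psiC, map_sum, map_zsmul]
    refine Eq.trans (Finset.sum_congr rfl fun j _ => congrArg _ (pushR_psiC m (good_termC h j) (acy_termC ha j))) ?_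
    exact (relC X (Pp := X.AcyC) (fun e h => acy_isoC e h)
      (fun hS h₁ h₂ h₃ => acy_X3C hS h₁ h₂ h₃) (fun M => clC ((Scheme.Modules.pushforward X.π).obj M))
      (fun hS h₁ h₂ h₃ => K0Res.clSub_add (fun M => Coh.IsCoh M)
        (shortExact_push hS (h₁.1).1 (acy_acyclicC h₁)) (isCoh_pushC X h₁.1)
        (isCoh_pushC X h₂.1) (isCoh_pushC X h₃.1))
      (fun e h => clC_iso ((Scheme.Modules.pushforward X.π).mapIso e) (isCoh_pushC X h.1))
      h.1 ha fun j _ => acy_termC ha j).symm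

/-- Push-forward of an acyclic bundle is the class of the direct image. -/
theorem pushK_clsC {F : X.P.Modules} (hF : X.AcyC F) :
    X.pushKC (clC F) = clC ((Scheme.Modules.pushforward X.π).obj F) := by
  obtain ⟨m, hm⟩ := exists_goodC (X := X) hF.1
  show X.pushRC (X.toRegC (clC F)) = _
  rw [toReg_clsC hm, pushR_psiC m hm hF]

end Groth.Agent.PBReg
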