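import Groth.Agent.PBReg.Push
import Groth.Agent.PnReg.WedgeLine
import Groth.Agent.VBTwo.Ext
import Groth.Agent.CycPB.Tower
import Groth.Agent.CurveRR.Multi

/-!
A bundle on a projective bundle as an alternating sum of its positive twists.
-/

set_option autoImplicit false
set_option linter.unusedSectionVars false
set_option linter.style.haveILetI false
set_option backward.isDefEq.respectTransparency false
set_option backward.isDefEq.respectTransparency.types false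
set_option maxHeartbeats 1000000

universe u

open CategoryTheory CategoryTheory.Limits AlgebraicGeometry TopologicalSpace Opposite

noncomputable section

namespace Groth.Agent.PBReg

open SGA6Ext

theorem isFLF_tm {Y : Scheme.{u}} {A B : Y.Modules} (hA : FlatMod.IsFinLocFree A) (hB : FlatMod.IsFinLocFree B) :
    FlatMod.IsFinLocFree (CohB1.tensorMod A B) :=
  DerPerf.isFinLocFree_tensor hA hB

theorem isRank_extSh {Y : Scheme.{u}} {E : Y.Modules} {N : ℕ} (hE : FlatMod.IsFinLocFreeOfRank N E) (k : ℕ) :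
    FlatMod.IsFinLocFreeOfRank (N.choose k) (extSh E k) := by
  refine W7Strat.isFinLocFreeOfRank_of_frames fun x => ?_
  obtain ⟨U, m, e, hx, he⟩ := TMul.exists_isFrame (finLocFree_of_rank hE) x
  obtain rfl : m = N := (rk_of_frame he hx).symm.trans (rk_of_rank hE x)
  obtain ⟨f, hf⟩ := exists_frame_extSh E k he
  exact ⟨U, f, hx, hf⟩

/-- The sequences of exterior powers of a line quotient of a module of rank `N + 1`. -/
theorem exists_koszul {Y : Scheme.{u}} {N : ℕ} {E L : Y.Modules} (hE : FlatMod.IsFinLocFreeOfRank (N + 1) E)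
    (hL : FlatMod.IsFinLocFreeOfRank 1 L) (q : E ⟶ L) [Epi q] :
    ∃ K : ℕ → Y.Modules, (∀ i, FlatMod.IsFinLocFree (K i)) ∧ Nonempty (K 0 ≅ Coh.structureModule Y) ∧
      Nonempty (extSh E (N + 1) ≅ CohB1.tensorMod (K N) L) ∧ ∀ i, ∃ S : ShortComplex Y.Modules, S.ShortExact ∧
        Nonempty (S.X₁ ≅ K (i + 1)) ∧ Nonempty (S.X₂ ≅ extSh E (i + 1)) ∧
        Nonempty (S.X₃ ≅ CohB1.tensorMod (K i) L) := by
  have hEf := finLocFree_of_rank hE
  have hLf := finLocFree_of_rank hL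
  have hM : FlatMod.IsFinLocFree (kernel q) := DCohLocus.isFinLocFree_kernel q hEf hLf
  let S₀ := ShortComplex.mk (kernel.ι q) q (kernel.condition q)
  have hS₀ : S₀.ShortExact := { exact := ShortComplex.exact_kernel q }
  choose φM hφM using fun k => isExtPow_extSh (kernel q) k hM
  choose φE hφE using fun k => isExtPow_extSh E k hEf
  choose φL hφL using fun k => isExtPow_extSh L k hLf
  let D : Sys S₀ :=
    { L' := fun k => extSh (kernel q) k, L := fun k => extSh E k, L'' := fun k => extSh L k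
      φ' := φM, φ := φE, φ'' := φL
      hφ' := hφM, hφ := hφE, hφ'' := hφL
      hL' := fun k => isFinLocFree_extSh _ k hM, hL := fun k => isFinLocFree_extSh _ k hEf
      hL'' := fun k => isFinLocFree_extSh _ k hLf
      hS := hS₀, h₁ := hM, h₂ := hEf, h₃ := hLf }
  obtain ⟨φ₀, hφ₀⟩ := isExtPow_zero L
  obtain ⟨a₀⟩ := nonempty_iso_of_phi (φ := φL 0) (hφL 0) (φ' := φ₀) hφ₀
  obtain ⟨φ₁, hφ₁⟩ := isExtPow_one L
  obtain ⟨a₁⟩ := nonempty_iso_of_phi (φ := φL 1) (hφL 1) (φ' := φ₁) hφ₁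
  have hQ0 : ∀ n k, k + 1 ≤ n → IsZero (Q D n k) := fun n k => by
    induction k with
    | zero => exact fun _ => isZero_Q_zero D n
    | succ k ih =>
      intro hk
      exact PnReg.isZero_middle (shortExact_gr D n k (by omega))
        (PnReg.isZero_tensor_right (PnReg.isZero_extSh_line hL (by omega)) _) (ih (by omega))
  have hiso : ∀ i, Nonempty (CohB1.tensorMod (extSh (kernel q) i) L ≅ Q D (i + 1) (i + 1)) := fun i => by
    haveI := (shortExact_gr D (i + 1) i (by omega)).mono_f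
    haveI : Epi (gamma D (i + 1) i) :=
      (shortExact_gr D (i + 1) i (by omega)).exact.epi_f ((hQ0 (i + 1) i le_rfl).eq_of_tgt _ _)
    haveI : IsIso (gamma D (i + 1) i) := isIso_of_mono_of_epi _
    exact ⟨PicGrp.tensorModIso (Iso.refl _) (a₁.symm ≪≫ eqToIso (by rw [Nat.add_sub_cancel_left])) ≪≫
      asIso (gamma D (i + 1) i)⟩
  have key : ∀ i, ∃ S : ShortComplex Y.Modules, S.ShortExact ∧
      Nonempty (S.X₁ ≅ extSh (kernel q) (i + 1)) ∧ Nonempty (S.X₂ ≅ extSh E (i + 1)) ∧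
        Nonempty (S.X₃ ≅ CohB1.tensorMod (extSh (kernel q) i) L) := fun i => by
    haveI : IsIso (prj D (i + 1) (i + 1 + 1)) := cokernel.π_of_zero (psi_eq_zero D (i + 1))
    obtain ⟨g⟩ := hiso i
    refine ⟨_, shortExact_gr D (i + 1) (i + 1) le_rfl, ⟨?_⟩, ⟨(asIso (prj D (i + 1) (i + 1 + 1))).symm⟩, ⟨g.symm⟩⟩
    exact PicGrp.tensorModIso (Iso.refl _) (eqToIso (by rw [Nat.sub_self]) ≪≫ a₀) ≪≫
      TMul.commIso _ (Coh.structureModule Y) ≪≫ TMul.leftUnitIso _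
  obtain ⟨ψ₀, hψ₀⟩ := isExtPow_zero (kernel q)
  refine ⟨fun k => extSh (kernel q) k, D.hL', nonempty_iso_of_phi (φ := φM 0) (hφM 0) (φ' := ψ₀) hψ₀, ?_, key⟩
  obtain ⟨S, hS, ⟨a⟩, ⟨b⟩, ⟨c⟩⟩ := key N
  have hz : IsZero (extSh (kernel q) (N + 1)) :=
    isZero_of_rank_zero (by
      have h := isRank_extSh (N := N) (k := N + 1) (CycPB.isFinLocFreeOfRank_kernel q hE (ZeroSch.isInvertible_of_rankOne hL))
      rwa [Nat.choose_succ_self] at h)
  have h1 : IsZero S.X₁ := hz.of_iso a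
  haveI := hS.epi_g
  haveI : Mono S.g := hS.exact.mono_g (h1.eq_of_src _ _)
  haveI : IsIso S.g := isIso_of_mono_of_epi _
  exact ⟨b.symm ≪≫ asIso S.g ≪≫ c⟩

variable {n : ℕ} {T : Scheme.{u}} (X : Bun n T)

theorem exists_kos :
    ∃ K : ℕ → X.P.Modules, (∀ i, FlatMod.IsFinLocFree (K i)) ∧ Nonempty (K 0 ≅ Coh.structureModule X.P) ∧
      Nonempty (extSh ((Scheme.Modules.pullback X.π).obj X.E) (n + 1) ≅ CohB1.tensorMod (K n) X.O1) ∧
      ∀ i, ∃ S : ShortComplex X.P.Modules, S.ShortExact ∧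
        Nonempty (S.X₁ ≅ K (i + 1)) ∧ Nonempty (S.X₂ ≅ extSh ((Scheme.Modules.pullback X.π).obj X.E) (i + 1)) ∧
        Nonempty (S.X₃ ≅ CohB1.tensorMod (K i) X.O1) :=
  haveI := X.hB.epi
  exists_koszul (Nagata.isFinLocFreeOfRank_pullback X.π X.hE) X.hB.invertible X.q

/-- The Koszul modules. -/
def Bun.kos : ℕ → X.P.Modules := (exists_kos X).choose

theorem inv_det : PicF.IsInvertible (extSh X.E (n + 1)) := by
  have h := isRank_extSh X.hE (n + 1)
  rw [Nat.choose_self] at h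
  exact ZeroSch.isInvertible_of_rankOne h

/-- An inverse of the determinant. -/
def Bun.Dinv : T.Modules :=
  (W7Hull.exists_tensor_inverse (inv_det X)).choose

theorem Bun.Dinv_spec : PicF.IsInvertible X.Dinv ∧
    Nonempty (CohB1.tensorMod (extSh X.E (n + 1)) X.Dinv ≅ Coh.structureModule T) :=
  (W7Hull.exists_tensor_inverse (inv_det X)).choose_spec

/-- The coefficient bundles. -/
def Bun.coef (j : ℕ) : T.Modules := CohB1.tensorMod (extSh X.E (n - j)) X.Dinv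

theorem isFinLocFree_coef (j : ℕ) : FlatMod.IsFinLocFree (X.coef j) := by
  have h1 : FlatMod.IsFinLocFree (extSh X.E (n - j)) := isFinLocFree_extSh X.E (n - j) (finLocFree_of_rank X.hE)
  have h2 : FlatMod.IsFinLocFree X.Dinv := ResDesc.isFinLocFree_of_isInvertible X.Dinv_spec.1
  rw [Bun.coef]
  exact isFLF_tm h1 h2

/-- The bundles by which one tensors. -/
def Bun.coefTw (j : ℕ) : X.P.Modules :=
  CohB1.tensorMod ((Scheme.Modules.pullback X.π).obj (X.coef j)) (X.O ((j + 1 : ℕ) : ℤ))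

theorem isFinLocFree_coefTw (j : ℕ) : FlatMod.IsFinLocFree (X.coefTw j) :=
  isFLF_tm (DerPerf.isFinLocFree_pullback X.π (isFinLocFree_coef X j))
    (ResDesc.isFinLocFree_of_isInvertible (X.inv_O _))

/-- The terms of the relation. -/
abbrev Bun.term (j : ℕ) (F : X.P.Modules) : X.P.Modules := CohB1.tensorMod F (X.coefTw j)

theorem isFinLocFree_term (j : ℕ) {F : X.P.Modules} (hF : FlatMod.IsFinLocFree F) :
    FlatMod.IsFinLocFree (X.term j F) :=
  isFLF_tm hF (isFinLocFree_coefTw X j)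

theorem nonempty_term (j : ℕ) (F : X.P.Modules) :
    Nonempty (X.term j F ≅ CohB1.tensorMod ((Scheme.Modules.pullback X.π).obj (X.coef j))
      (X.twF ((j + 1 : ℕ) : ℤ) F)) :=
  ⟨TMul.commIso F (X.coefTw j) ≪≫ TMul.assocIso ((Scheme.Modules.pullback X.π).obj (X.coef j)) _ F⟩

/-- The successive images. -/
def Bun.img (j : ℕ) (F : X.P.Modules) : X.P.Modules :=
  CohB1.tensorMod (X.kos (n - j))
    (CohB1.tensorMod ((Scheme.Modules.pullback X.π).obj X.Dinv) (X.twF ((j + 1 : ℕ) : ℤ) F))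

theorem isFinLocFree_img (j : ℕ) {F : X.P.Modules} (hF : FlatMod.IsFinLocFree F) :
    FlatMod.IsFinLocFree (X.img j F) :=
  isFLF_tm ((exists_kos X).choose_spec.1 _) (isFLF_tm
    (DerPerf.isFinLocFree_pullback X.π (ResDesc.isFinLocFree_of_isInvertible X.Dinv_spec.1)) (isFinLocFree_twF _ hF))

theorem nonempty_img_zero (F : X.P.Modules) : Nonempty (X.img 0 F ≅ F) := by
  obtain ⟨e⟩ := (exists_kos X).choose_spec.2.2.1
  obtain ⟨p⟩ := exists_pullExt X.π (n + 1) (finLocFree_of_rank X.hE)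
  obtain ⟨k⟩ := TMul.nonempty_pullTensorIso X.π (extSh X.E (n + 1)) X.Dinv
  obtain ⟨m⟩ := X.Dinv_spec.2
  let D := (Scheme.Modules.pullback X.π).obj X.Dinv
  let a : CohB1.tensorMod X.O1 (CohB1.tensorMod D F) ≅ CohB1.tensorMod D (CohB1.tensorMod X.O1 F) :=
    (TMul.assocIso X.O1 D F).symm ≪≫ PicGrp.tensorModIso (TMul.commIso X.O1 D) (Iso.refl F) ≪≫ TMul.assocIso D X.O1 F
  have hO : Nonempty (X.O ((0 + 1 : ℕ) : ℤ) ≅ X.O1) := by
    obtain ⟨z⟩ := X.O_zero
    obtain ⟨s⟩ := X.O_succ 0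
    exact ⟨eqToIso (by norm_num) ≪≫ s.symm ≪≫ PicGrp.tensorModIso z (Iso.refl _) ≪≫ TMul.leftUnitIso _⟩
  obtain ⟨o⟩ := hO
  exact ⟨PicGrp.tensorModIso (eqToIso (congrArg X.kos (Nat.sub_zero n)))
      (PicGrp.tensorModIso (Iso.refl D) (PicGrp.tensorModIso o (Iso.refl F)) ≪≫ a.symm) ≪≫
    (TMul.assocIso (X.kos n) X.O1 _).symm ≪≫ PicGrp.tensorModIso (e.symm ≪≫ p.symm) (Iso.refl _) ≪≫
    (TMul.assocIso _ D F).symm ≪≫ PicGrp.tensorModIso (k ≪≫ (Scheme.Modules.pullback X.π).mapIso m ≪≫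
      DerPerf.pullUnitIso X.π) (Iso.refl F) ≪≫ TMul.leftUnitIso F⟩

theorem nonempty_img_last (F : X.P.Modules) : Nonempty (X.img n F ≅ X.term n F) := by
  obtain ⟨e⟩ := (exists_kos X).choose_spec.2.1
  obtain ⟨φ, hφ⟩ := isExtPow_zero X.E
  obtain ⟨ψ, hψ⟩ := isExtPow_extSh X.E 0 (finLocFree_of_rank X.hE)
  obtain ⟨z⟩ := nonempty_iso_of_phi (φ := ψ) hψ (φ' := φ) hφ
  obtain ⟨t⟩ := nonempty_term X n F
  let c : X.Dinv ≅ X.coef n :=
    (TMul.leftUnitIso X.Dinv).symm ≪≫ PicGrp.tensorModIso (z.symm ≪≫ eqToIso (by rw [Nat.sub_self])) (Iso.refl _)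
  exact ⟨PicGrp.tensorModIso (eqToIso (congrArg X.kos (Nat.sub_self n)) ≪≫ e)
      (PicGrp.tensorModIso ((Scheme.Modules.pullback X.π).mapIso c) (Iso.refl _)) ≪≫
    TMul.leftUnitIso _ ≪≫ t.symm⟩

theorem img_seq {F : X.P.Modules} (hF : FlatMod.IsFinLocFree F) {j : ℕ} (hj : j < n) :
    ∃ S : ShortComplex X.P.Modules, S.ShortExact ∧ Nonempty (S.X₁ ≅ X.img j F) ∧
      Nonempty (S.X₂ ≅ X.term j F) ∧ Nonempty (S.X₃ ≅ X.img (j + 1) F) := by
  obtain ⟨i, hi⟩ : ∃ i, i + 1 = n - j := ⟨n - j - 1, by omega⟩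
  obtain ⟨S, hS, ⟨a⟩, ⟨b⟩, ⟨c⟩⟩ := (exists_kos X).choose_spec.2.2.2 i
  let D := (Scheme.Modules.pullback X.π).obj X.Dinv
  let G := CohB1.tensorMod D (X.twF ((j + 1 : ℕ) : ℤ) F)
  have hG : FlatMod.IsFinLocFree G := isFLF_tm
    (DerPerf.isFinLocFree_pullback X.π (ResDesc.isFinLocFree_of_isInvertible X.Dinv_spec.1)) (isFinLocFree_twF _ hF)
  obtain ⟨p⟩ := exists_pullExt X.π (i + 1) (finLocFree_of_rank X.hE)
  obtain ⟨k⟩ := TMul.nonempty_pullTensorIso X.π (extSh X.E (i + 1)) X.Dinv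
  obtain ⟨t⟩ := nonempty_term X j F
  obtain ⟨o⟩ := X.O_succ ((j + 1 : ℕ) : ℤ)
  refine ⟨_, PnReg.shortExact_tensor hG hS, ⟨?_⟩, ⟨?_⟩, ⟨?_⟩⟩
  · exact PicGrp.tensorModIso (a ≪≫ eqToIso (congrArg X.kos hi)) (Iso.refl G)
  · exact PicGrp.tensorModIso (b ≪≫ p.symm) (Iso.refl G) ≪≫ (TMul.assocIso _ D _).symm ≪≫
      PicGrp.tensorModIso (k ≪≫ (Scheme.Modules.pullback X.π).mapIso
        (PicGrp.tensorModIso (eqToIso (by rw [hi])) (Iso.refl _))) (Iso.refl _) ≪≫ t.symm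
  · let M := X.O ((j + 1 : ℕ) : ℤ)
    exact PicGrp.tensorModIso c (Iso.refl G) ≪≫ TMul.assocIso (X.kos i) X.O1 G ≪≫
      PicGrp.tensorModIso (eqToIso (congrArg X.kos (by omega : i = n - (j + 1))))
        ((TMul.assocIso X.O1 D _).symm ≪≫ PicGrp.tensorModIso (TMul.commIso X.O1 D) (Iso.refl _) ≪≫
          TMul.assocIso D X.O1 _ ≪≫ PicGrp.tensorModIso (Iso.refl D)
            ((TMul.assocIso X.O1 M F).symm ≪≫ PicGrp.tensorModIso
              (TMul.commIso X.O1 M ≪≫ o ≪≫ eqToIso (congrArg X.O (by push_cast; ring))) (Iso.refl F)))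

/-- The relation, for a class of modules closed enough. -/
theorem rel {Pp : ObjectProperty X.P.Modules}
    (hiso : ∀ {M N : X.P.Modules}, (M ≅ N) → Pp M → Pp N)
    (h3 : ∀ {S : ShortComplex X.P.Modules}, S.ShortExact → Pp S.X₁ → Pp S.X₂ → FlatMod.IsFinLocFree S.X₃ → Pp S.X₃)
    {A : Type*} [AddCommGroup A] (f : X.P.Modules → A)
    (hadd : ∀ {S : ShortComplex X.P.Modules}, S.ShortExact → Pp S.X₁ → Pp S.X₂ → Pp S.X₃ → f S.X₂ = f S.X₁ + f S.X₃)
    (hfiso : ∀ {M N : X.P.Modules}, (M ≅ N) → Pp M → f M = f N)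
    {F : X.P.Modules} (hF : FlatMod.IsFinLocFree F) (hPF : Pp F) (hPT : ∀ j, j < n → Pp (X.term j F)) :
    f F = ∑ j ∈ Finset.range (n + 1), (-1 : ℤ) ^ j • f (X.term j F) := by
  have key : ∀ j, j ≤ n → Pp (X.img j F) ∧
      f F = (∑ i ∈ Finset.range j, (-1 : ℤ) ^ i • f (X.term i F)) + (-1 : ℤ) ^ j • f (X.img j F) := by
    intro j
    induction j with
    | zero =>
      intro _
      obtain ⟨e⟩ := nonempty_img_zero X F
      refine ⟨hiso e.symm hPF, ?_⟩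
      rw [Finset.sum_range_zero, pow_zero, one_smul, zero_add]
      exact hfiso e.symm hPF
    | succ j ih =>
      intro hj
      obtain ⟨hP, hs⟩ := ih (by omega)
      obtain ⟨S, hS, ⟨a⟩, ⟨b⟩, ⟨c⟩⟩ := img_seq X hF (j := j) (by omega)
      have p₁ : Pp S.X₁ := hiso a.symm hP
      have p₂ : Pp S.X₂ := hiso b.symm (hPT j (by omega))
      have p₃ : Pp S.X₃ := h3 hS p₁ p₂ (DQCoh.isFinLocFree_of_iso' c.symm (isFinLocFree_img X _ hF))
      refine ⟨hiso c p₃, ?_⟩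
      have h := hadd hS p₁ p₂ p₃
      rw [hfiso a p₁, hfiso b p₂, hfiso c p₃] at h
      rw [hs, Finset.sum_range_succ, h, pow_succ, mul_neg_one, neg_smul, smul_add]
      abel
  obtain ⟨hP, hs⟩ := key n le_rfl
  obtain ⟨e⟩ := nonempty_img_last X F
  rw [hs, Finset.sum_range_succ, hfiso e hP]

end Groth.Agent.PBReg
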