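import Groth.Agent.PBReg.Main
import Groth.Agent.PnReg.HighReg
import Groth.Agent.PnReg.KProj
import Groth.Agent.S0927

/-!
Direct images of regular bundles on a projective bundle, high twists, the projection formula.
-/

set_option autoImplicit false
set_option linter.unusedSectionVars false
set_option linter.style.haveILetI false
set_option backward.isDefEq.respectTransparency false
set_option backward.isDefEq.respectTransparency.types false
set_option maxHeartbeats 1000000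

universe u

open CategoryTheory CategoryTheory.Limits AlgebraicGeometry TopologicalSpace Opposite
open Groth.Agent.PnReg (Ot Reg)

noncomputable section

namespace Groth.Agent.PBReg

variable {n : ℕ} {T : Scheme.{u}} {X : Bun n T}

theorem isFinLocFree_twF (d : ℤ) {F : X.P.Modules} (hF : FlatMod.IsFinLocFree F) : FlatMod.IsFinLocFree (X.twF d F) :=
  DerPerf.isFinLocFree_tensor (ResDesc.isFinLocFree_of_isInvertible (X.inv_O d)) hF

theorem isQCoh_of_finLocFree {F : X.P.Modules} (hF : FlatMod.IsFinLocFree F) : Coh.IsQCoh F :=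
  LocFree.isQCoh_of_isFinLocFree hF

theorem isFlatOver {F : X.P.Modules} (hF : FlatMod.IsFinLocFree F) : FlatMod.IsFlatOver X.π F :=
  DQCoh.flatOver_of_flat _ (DerPerf.isFlat_of_isFinLocFree hF)

theorem subsingleton_rpush_sections {F : X.P.Modules} (hF : Coh.IsQCoh F) (p : ℕ) {V : T.Opens} (c : X.Chart V)
    (h : Subsingleton (Coh.HH (CohB1.ProjSpace n Γ(T, V)) (c.Q.obj F) (p + 1))) :
    Subsingleton Γ((Coh.Rpush X.π (p + 1)).obj F, V) := by
  have h1 : Subsingleton (CohSite.HU (Coh.toAb F) (p + 1) (X.π ⁻¹ᵁ V)) := (c.subsingleton_iff F hF (p + 1)).2 h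
  obtain ⟨a⟩ := CohQC.hu_restrict F (X.π ⁻¹ᵁ V) (p + 1)
  have h2 : Subsingleton (Coh.HH _ (F.restrict (X.π ⁻¹ᵁ V).ι) (p + 1)) := a.symm.toEquiv.subsingleton
  letI : (X.π ⁻¹ᵁ V).toScheme.Over (Spec (CommRingCat.of Γ(T, V))) :=
    ⟨(X.π ∣_ V) ≫ c.aff.isoSpec.hom⟩
  obtain ⟨l⟩ := W7Cech.nonempty_rpush_sections X.π F hF (p + 1) c.aff
  exact @Equiv.subsingleton _ _ l.toEquiv h2

/-- Higher direct images vanish. -/
def Bun.Acyclic (X : Bun n T) (F : X.P.Modules) : Prop :=
  ∀ i : ℕ, 1 ≤ i → IsZero ((Coh.RpushAb X.π i).obj (Coh.toAb F))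

theorem acyclic_of_iso {F G : X.P.Modules} (e : F ≅ G) (h : X.Acyclic F) : X.Acyclic G := fun i hi =>
  (h i hi).of_iso ((Coh.RpushAb X.π i).mapIso ((SheafOfModules.toSheaf _).mapIso e.symm))

theorem acyclic_of_reg {F : X.P.Modules} (hF : Coh.IsQCoh F) (hreg : X.IsReg F) : X.Acyclic F :=
  isZero_rpush_of_reg hF hreg

/-- The direct image of an acyclic locally free sheaf is locally free. -/
theorem isFinLocFree_push {F : X.P.Modules} (hF : FlatMod.IsFinLocFree F) (h : X.Acyclic F) :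
    FlatMod.IsFinLocFree ((Scheme.Modules.pushforward X.π).obj F) := by
  refine W7Hull.isFinLocFree_push_of_vanish X.π (isQCoh_of_finLocFree hF) (LocFree.isFP_of_isFinLocFree hF)
    (isFlatOver hF) fun y => ?_
  obtain ⟨W, hW, hyW, -, hc⟩ := exists_chart_basis X (U := ⊤) (y := y) trivial
  exact ⟨W, hyW, fun V hV hVW p => subsingleton_rpush_sections (isQCoh_of_finLocFree hF) p (hc V hV hVW).some
    ((isZero_iff F (isQCoh_of_finLocFree hF) (p + 1)).1 (h (p + 1) (by omega)) V (hc V hV hVW).some)⟩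

variable {F : X.P.Modules} (hF : FlatMod.IsFinLocFree F) (hreg : X.IsReg F)

include hF hreg in
theorem isFinLocFree_iterK : ∀ i, FlatMod.IsFinLocFree (X.iterK F i)
  | 0 => hF
  | i + 1 => by
    have h := isFinLocFree_iterK i
    obtain ⟨hq, hr⟩ := iterK_spec (isQCoh_of_finLocFree hF) hreg i
    haveI := epi_counit hq hr
    exact isFinLocFree_twF 1 (DCohLocus.isFinLocFree_kernel _
      (DerPerf.isFinLocFree_pullback _ (isFinLocFree_push h (acyclic_of_reg hq hr))) h)

/-- High twists of bundles are regular. -/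
theorem exists_reg_twF [CompactSpace T] {F : X.P.Modules} (hF : FlatMod.IsFinLocFree F) :
    ∃ m₀ : ℕ, ∀ m : ℕ, m₀ ≤ m → X.IsReg (X.twF (m : ℤ) F) := by
  choose V hV _ hc using fun y => exists_chart X (U := ⊤) (y := y) trivial
  obtain ⟨t, ht⟩ := isCompact_univ.elim_finite_subcover (fun y : T => (V y : Set T)) (fun y => (V y).2)
    fun y _ => Set.mem_iUnion.2 ⟨y, hV y⟩
  have hb : ∀ y : T, ∃ N : ℕ, ∀ m : ℕ, N ≤ m → Reg ((hc y).some.Q.obj F) (m : ℤ) := fun y => by
    let c := (hc y).some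
    have hQ : FlatMod.IsFinLocFree (c.Q.obj F) := DerPerf.isFinLocFree_pullback c.q hF
    obtain ⟨m₁, hm₁⟩ := PnReg.vanish_free n Γ(T, V y) _ hQ
    refine ⟨m₁ + n, fun m hm q hq => ?_⟩
    rcases lt_or_ge n q with h | h
    · exact PnReg.hh_above _ (PnReg.isQCoh_twist (c.isQCoh (isQCoh_of_finLocFree hF)) _) q h
    obtain ⟨p, rfl⟩ : ∃ p, q = p + 1 := ⟨q - 1, by omega⟩
    obtain ⟨e⟩ := GrT.nonempty_iso_tensorPow (𝒜 := CohB1.polyGrading n Γ(T, V y)) (CohFinite.cov_one n _) (m - (p + 1))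
    have hh := hm₁ (m - (p + 1)) (by omega) p
    rw [show (m : ℤ) - ((p + 1 : ℕ) : ℤ) = ((m - (p + 1) : ℕ) : ℤ) by omega]
    exact CohQC.hh_subsingleton_of_iso (PicGrp.tensorModIso (Iso.refl _) e).symm _ hh
  choose N hN using hb
  refine ⟨t.sup N, fun m hm q hq => ?_⟩
  refine W7Hull.isZero_rpushAb_of_cover _ _ (isQCoh_twF _ (isQCoh_twF _ (isQCoh_of_finLocFree hF))) q fun z => ?_
  obtain ⟨y, hy⟩ := Set.mem_iUnion.1 (ht (Set.mem_univ z))
  obtain ⟨hyt, hzy⟩ := Set.mem_iUnion.1 hy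
  let c := (hc y).some
  refine ⟨V y, c.aff, hzy, (c.subsingleton_iff _ (isQCoh_twF _ (isQCoh_twF _ (isQCoh_of_finLocFree hF))) q).2 ?_⟩
  obtain ⟨e⟩ := c.nonempty_twF (-(q : ℤ)) (X.twF (m : ℤ) F)
  have h := (c.reg_twF (m : ℤ) F).2 (hN y m ((Finset.le_sup hyt).trans hm)) q hq
  rw [zero_sub] at h
  exact CohQC.hh_subsingleton_of_iso e.symm q h

/-- Direct images are exact when the first term is acyclic. -/
theorem shortExact_push {S : ShortComplex X.P.Modules} (hS : S.ShortExact) (h₁ : Coh.IsQCoh S.X₁)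
    (r₁ : X.Acyclic S.X₁) : (S.map (Scheme.Modules.pushforward X.π)).ShortExact := by
  haveI := hS.mono_f
  have hepi : Epi ((Scheme.Modules.pushforward X.π).map S.g) := InvGen.epi_of_locally _ fun U t x hx => by
    obtain ⟨V, hxV, hVU, ⟨c⟩⟩ := exists_chart X (U := U) (y := x) hx
    let j := (X.π ⁻¹ᵁ V).ι
    have hu : Subsingleton (CohSite.HU (Coh.toAb S.X₁) 1 (X.π ⁻¹ᵁ V)) :=
      (c.subsingleton_iff S.X₁ h₁ 1).2 ((isZero_iff _ h₁ 1).1 (r₁ 1 le_rfl) V c)
    obtain ⟨a⟩ := CohQC.hu_restrict S.X₁ (X.π ⁻¹ᵁ V) 1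
    haveI := (Scheme.Modules.restrictFunctor j).preservesHomologyOfExact
    have hs := PnReg.surjective_app_top (S := S.map (Scheme.Modules.restrictFunctor j)) (hS.map_of_exact _)
      (a.symm.toEquiv.subsingleton)
    have he : j ''ᵁ (⊤ : (X.π ⁻¹ᵁ V).toScheme.Opens) = X.π ⁻¹ᵁ V :=
      (Scheme.Hom.image_top_eq_opensRange j).trans (Scheme.Opens.opensRange_ι _)
    have hs' : Function.Surjective (S.g.app (j ''ᵁ ⊤)) := hs
    rw [he] at hs'
    obtain ⟨w, hw⟩ := hs' (QC.res ((Scheme.Modules.pushforward X.π).obj S.X₃) hVU t)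
    exact ⟨V, hVU, hxV, w, hw⟩
  exact
    { exact := hS.exact.map_of_mono_of_preservesKernel (Scheme.Modules.pushforward X.π) hS.mono_f inferInstance
      mono_f := inferInstanceAs (Mono ((Scheme.Modules.pushforward X.π).map S.f))
      epi_g := hepi }

/-- Moving a twist inside. -/
def Bun.moveIso (X : Bun n T) (M F : X.P.Modules) (j : ℤ) :
    CohB1.tensorMod M (X.twF j F) ≅ X.twF j (CohB1.tensorMod M F) :=
  (TMul.assocIso M (X.O j) F).symm ≪≫
    PicGrp.tensorModIso (TMul.commIso M (X.O j)) (Iso.refl F) ≪≫ TMul.assocIso _ M F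

theorem isZero_rpush_pull_tensor {E : T.Modules} {F : X.P.Modules} (hE : FlatMod.IsFinLocFree E) (i : ℕ)
    (h : IsZero ((Coh.RpushAb X.π i).obj (Coh.toAb F))) :
    IsZero ((Coh.RpushAb X.π i).obj (Coh.toAb (CohB1.tensorMod ((Scheme.Modules.pullback X.π).obj E) F))) := by
  obtain ⟨a⟩ := CohQC.toAb_rpush_iso X.π F i
  have hz : IsZero ((Coh.Rpush X.π i).obj F) := PnReg.isZero_of_toAb (h.of_iso a)
  obtain ⟨b⟩ := Groth.Agent.S0927.result X.π F E hE i
  have hz' := (PnReg.isZero_tensor_right hz E).of_iso b.symm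
  obtain ⟨a'⟩ := CohQC.toAb_rpush_iso X.π (CohB1.tensorMod ((Scheme.Modules.pullback X.π).obj E) F) i
  exact ((SheafOfModules.toSheaf _).map_isZero hz').of_iso a'.symm

theorem acyclic_pull_tensor {E : T.Modules} {F : X.P.Modules} (hE : FlatMod.IsFinLocFree E) (h : X.Acyclic F) :
    X.Acyclic (CohB1.tensorMod ((Scheme.Modules.pullback X.π).obj E) F) := fun i hi =>
  isZero_rpush_pull_tensor hE i (h i hi)

/-- Tensoring with a bundle from the base keeps regularity. -/
theorem isReg_pull_tensor {E : T.Modules} {F : X.P.Modules} (hE : FlatMod.IsFinLocFree E) (hreg : X.IsReg F) :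
    X.IsReg (CohB1.tensorMod ((Scheme.Modules.pullback X.π).obj E) F) := fun i hi =>
  (isZero_rpush_pull_tensor hE i (hreg i hi)).of_iso ((Coh.RpushAb X.π i).mapIso ((SheafOfModules.toSheaf _).mapIso
    (X.moveIso ((Scheme.Modules.pullback X.π).obj E) F (-(i : ℤ))).symm))

/-- The projection formula. -/
theorem nonempty_push_tensor (F : X.P.Modules) {E : T.Modules} (hE : FlatMod.IsFinLocFree E) :
    Nonempty ((Scheme.Modules.pushforward X.π).obj (CohB1.tensorMod ((Scheme.Modules.pullback X.π).obj E) F) ≅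
      CohB1.tensorMod E ((Scheme.Modules.pushforward X.π).obj F)) := by
  obtain ⟨b⟩ := Groth.Agent.S0927.result X.π F E hE 0
  exact ⟨(((Coh.push X.π).rightDerivedZeroIsoSelf).app _).symm ≪≫ b.symm ≪≫
    PicGrp.tensorModIso (Iso.refl E) (((Coh.push X.π).rightDerivedZeroIsoSelf).app F)⟩

end Groth.Agent.PBReg
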